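import Cfsg.Agent.Lib.Forms.Max.Unitary
import Cfsg.Agent.SimpleFacts.MinIndexPSUThree.Group

/-!
# The special unitary group of degree three inside the general linear group
-/

set_option autoImplicit false
set_option linter.unusedSectionVars false

namespace Cfsg.Agent.Forms.Max.SU3

open Matrix Cfsg.Agent.Classical Cfsg.Agent.Classical.Unitary
open Cfsg.Agent.SimpleFacts.MinIndexPSUThree Cfsg.Agent.SimpleFacts.MinIndexPSUThree.Borel

universe u

variable {F : Type u} [Field F] [Fintype F] {q : ℕ}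

local notation "Vec" => (Fin 3 → F)
local notation "H" => Cfsg.hermForm 3 F q
local notation "GL3" => GL (Fin 3) F
local notation "SUn" => (Cfsg.GU 3 F q ⊓ Cfsg.Geo.specialLinear (Fin 3) F)

/-- the embedding of the matrix group -/
def emb (F : Type u) [Field F] [Fintype F] (q : ℕ) : Cfsg.SU 3 F q →* GL (Fin 3) F :=
  Matrix.SpecialLinearGroup.toGL.comp (Cfsg.SU 3 F q).subtype

theorem coe_emb (g : Cfsg.SU 3 F q) : ((emb F q g : GL3) : Matrix (Fin 3) (Fin 3) F) = mat g := rfl

theorem emb_injective : Function.Injective (emb F q) := fun a b h => by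
  refine SU_ext fun x => ?_
  rw [← coe_emb, ← coe_emb, h]

theorem range_emb : (emb F q).range = SUn := by
  ext g
  rw [Unitary.mem_SUn]
  constructor
  · rintro ⟨k, rfl⟩
    exact ⟨k.2, k.1.2⟩
  · rintro ⟨h1, h2⟩
    exact ⟨suMk (g : Matrix (Fin 3) (Fin 3) F) h2 h1, Units.ext rfl⟩

theorem emb_mem (g : Cfsg.SU 3 F q) : emb F q g ∈ SUn := range_emb (F := F) (q := q) ▸ ⟨g, rfl⟩

theorem map_comap {M : Subgroup GL3} (hM : M ≤ SUn) : (M.comap (emb F q)).map (emb F q) = M := by
  rw [Subgroup.map_comap_eq, range_emb, inf_eq_right]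
  exact hM

theorem le_of_comap_eq_top {M : Subgroup GL3} (h : M.comap (emb F q) = ⊤) : SUn ≤ M := by
  intro g hg
  obtain ⟨k, rfl⟩ := (range_emb (F := F) (q := q)).ge hg
  have : k ∈ M.comap (emb F q) := h ▸ Subgroup.mem_top k
  exact this

theorem card_comap {M : Subgroup GL3} (hM : M ≤ SUn) : Nat.card (M.comap (emb F q)) = Nat.card M := by
  conv_rhs => rw [← map_comap hM]
  exact (Subgroup.card_map_of_injective emb_injective).symm

variable (hF : Fintype.card F = q ^ 2)

include hF

/-- full transvection groups in the language of centres -/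
theorem mem_centres_iff {M : Subgroup GL3} (hM : M ≤ SUn) (B : Frame F q) :
    B.e ∈ Unitary.centres q M ↔ Group.Zg F q B.e ≤ M.comap (emb F q) := by
  constructor
  · intro h u hu
    refine h.2 (emb F q u) (tau B u) (Group.tau_traceZero hF B hu) fun x => ?_
    have e : u = tvu hF B.he (Group.tau_traceZero hF B hu) := by
      obtain ⟨u1, u2⟩ := (Group.mem_Zg_iff hF B).1 hu
      obtain ⟨v1, v2⟩ := (Group.mem_Zg_iff hF B).1 (Group.tvu_mem_Zg hF B (Group.tau_traceZero hF B hu)).1
      exact unip_ext hF B u1 v1 (u2.trans v2.symm) (Group.tvu_mem_Zg hF B _).2.symm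
    rw [coe_emb]
    conv_lhs => rw [e]
    exact tvu_mulVec hF B.he _ x
  · intro h
    refine ⟨B.he, fun g c hc hg => ?_⟩
    have e : g = emb F q (tvu hF B.he hc) := by
      refine Max.gl_ext fun x => ?_
      rw [hg, coe_emb, tvu_mulVec]
    exact e ▸ h (Group.tvu_mem_Zg hF B hc).1

end Cfsg.Agent.Forms.Max.SU3
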