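import Mathlib
import Cfsg.Agent.Lib.Forms.Max.Unitary

/-!
# Stabilisers of subspaces in the special unitary group of dimension three
-/

set_option autoImplicit false
set_option linter.unusedSectionVars false

namespace Cfsg.Agent.Forms.Max.SU3.Subspace

open Matrix Cfsg.Agent.Classical.Unitary Cfsg.Agent.Forms.Max.Unitary

variable {F : Type*} [Field F] [Fintype F] {q n : ℕ}

local notation "Vec" => (Fin n → F)
local notation "GLn" => GL (Fin n) F
local notation "Mat" => Matrix (Fin n) (Fin n) F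
local notation "H" => Cfsg.hermForm n F q
local notation "SUn" => (Cfsg.GU n F q ⊓ Cfsg.Geo.specialLinear (Fin n) F)

variable (hF : Fintype.card F = q ^ 2)
include hF

theorem SUn_le_three (hn : n = 3) (hq : 3 ≤ q) {M : Subgroup GLn}
    (h : ∀ v, H v v = 0 → v ∈ centres q M) : SUn ≤ M :=
  SUn_le_of_tv hF (by omega) (by omega) fun g v c hv hc hg => (h v hv).2 g c hc hg

theorem singular_maximal_three (hn : n = 3) (hq : 3 ≤ q) (W : Submodule F Vec) (hW0 : W ≠ ⊥)
    (hW : ∀ u ∈ W, ∀ v ∈ W, H u v = 0) :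
    Cfsg.Geo.IsMaximalIn SUn (Cfsg.Geo.subspaceStabilizer W ⊓ SUn) := by
  have hperp : ∀ M : Subgroup GLn, Cfsg.Geo.subspaceStabilizer W ⊓ SUn ≤ M → ∀ v ∈ perp q W,
      H v v = 0 → v ∈ centres q M := fun M hM v hv hvv => centres_of_stab hF hM hvv fun w hw t => by
    rw [perp_symm hF hv hw, mul_zero, zero_smul, add_zero]; exact hw
  refine isMaximalIn_of inf_le_right (fun h => ?_) fun M hM hMK g hgM hg => ?_
  · obtain ⟨w, hw, hw0⟩ := Submodule.exists_mem_ne_zero_of_ne_bot hW0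
    obtain ⟨v, hv, hwv⟩ := exists_partner hF hw0 (hW w hw w hw)
    obtain ⟨c, hc0, hc⟩ := exists_traceZero hF
    obtain ⟨t, ht, htx⟩ := exists_tv hF hv hc
    have h1 := map_of_stab (h ht).1 hw
    rw [htx, hwv, mul_one] at h1
    have hvW : v ∈ W := by simpa [smul_smul, inv_mul_cancel₀ hc0] using W.smul_mem c⁻¹ ((W.add_mem_iff_right hw).1 h1)
    rw [hW w hw v hvW] at hwv
    exact zero_ne_one hwv
  have hgW : g ∉ Cfsg.Geo.subspaceStabilizer W := fun h => hg ⟨h, hMK hgM⟩
  obtain ⟨w₀, hw₀, hgw₀⟩ := exists_moved hgW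
  obtain ⟨u, hu, hu'⟩ : ∃ u ∈ centres q M, u ∉ perp q W := by
    obtain ⟨y, hy, hyy, hgy⟩ := exists_iso_perp hF hW
      (x := (g : Mat) *ᵥ w₀) (by rw [SUn_H (hMK hgM)]; exact hW _ hw₀ _ hw₀) hgw₀
    set z := ((g⁻¹ : GLn) : Mat) *ᵥ w₀ with hz
    by_cases hzW : z ∈ W
    swap
    · obtain ⟨y', hy', hyy', hzy⟩ := exists_iso_perp hF hW (x := z)
        (by rw [hz, SUn_H (inv_mem (hMK hgM))]; exact hW _ hw₀ _ hw₀) hzW
      refine ⟨_, centres_map hF hMK hgM (hperp M hM y' hy' hyy'), fun h => hzy ?_⟩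
      have := perp_symm hF h hw₀
      rwa [← mulVec_inv_cancel g w₀, SUn_H (hMK hgM)] at this
    · refine ⟨_, centres_map hF hMK (inv_mem hgM) (hperp M hM y hy hyy), fun h => hgy ?_⟩
      have := perp_symm hF h hw₀
      rw [← inv_mulVec_cancel g w₀, SUn_H (inv_mem (hMK hgM))] at this
      exact this
  obtain ⟨w₁, hw₁, hw₁u⟩ : ∃ w ∈ W, H w u ≠ 0 := by
    by_contra hc
    push Not at hc
    exact hu' (mem_perp.2 fun w hw => (H_eq_zero_comm hF).1 (hc w hw))
  refine SUn_le_three hF hn hq fun u' hu'u' => ?_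
  by_cases hu'' : u' ∈ perp q W
  · exact hperp M hM _ hu'' hu'u'
  have move : ∀ v : Vec, v ∈ centres q M → ∀ v' : Vec, H v' v' = 0 → (∀ w ∈ W, H w v' = H w v) →
      ∀ w ∈ W, H w v ≠ 0 → v' ∈ centres q M := by
    intro v hv v' hv'v' hvv' w hw hwv
    have hvw : H v w ≠ 0 := fun h => hwv ((H_eq_zero_comm hF).1 h)
    set a := ((H v w)⁻¹) ^ q • w with ha
    have haW : a ∈ W := W.smul_mem _ hw
    have hva : H v a = 1 := by rw [ha, H_smul_right, pow_qq hF, inv_mul_cancel₀ hvw]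
    set d := v' - v with hd
    have had : H a d = 0 := by rw [hd, H_sub_right hF, hvv' a haW, sub_self]
    have hβ : H v d + (H v d) ^ q + H d d = 0 := by
      have e : v' = v + d := by rw [hd]; abel
      rw [e] at hv'v'
      simp only [H_add_left, H_add_right hF, hv.1, zero_add] at hv'v'
      rw [H_conj hF]
      linear_combination hv'v'
    obtain ⟨S, hS, hSx⟩ := exists_siegel hF (hW a haW a haW) had hβ
    have hSM : S ∈ M := hM ⟨stab_of_forall fun x hx => by
      rw [hSx, hW x hx a haW, zero_smul, add_zero]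
      exact W.add_mem hx (W.smul_mem _ haW), hS⟩
    have := centres_map hF hMK hSM hv
    rwa [hSx, hva, one_smul, mul_one, neg_add_cancel, zero_smul, add_zero, hd, add_sub_cancel] at this
  let φ : W →ₗ[F] F := (hlin q u).domRestrict W
  let ψ : W →ₗ[F] F := (hlin q u').domRestrict W
  by_cases hc : ∃ c : F, ψ = c • φ
  · obtain ⟨c, hc⟩ := hc
    have hc' : ∀ w ∈ W, H w u' = c * H w u := fun w hw => LinearMap.congr_fun hc ⟨w, hw⟩
    refine move (c ^ q • u) (centres_smul hF _ hu) u' hu'u'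
      (fun w hw => by rw [H_smul_right, pow_qq hF, hc' w hw]) w₁ hw₁ ?_
    rw [H_smul_right, pow_qq hF]
    refine mul_ne_zero (fun h0 => hu'' (mem_perp.2 fun w hw => ?_)) hw₁u
    exact (H_eq_zero_comm hF).1 ((hc' w hw).trans (by rw [h0, zero_mul]))
  push Not at hc
  obtain ⟨⟨a, ha⟩, hau, hau'⟩ := exists_equal_value φ ψ
    (fun h => hw₁u (LinearMap.congr_fun h ⟨w₁, hw₁⟩)) hc
  change H a u ≠ 0 at hau
  change H a u' = H a u at hau'
  have hua : H u a ≠ 0 := fun h => hau ((H_eq_zero_comm hF).1 h)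
  set b := (H u a)⁻¹ • (u' - u) with hb
  have hab : H a b = 0 := by rw [hb, H_smul_right, H_sub_right hF, hau', sub_self, mul_zero]
  obtain ⟨β, hβ⟩ := exists_trace_add hF b
  obtain ⟨S, hS, hSx⟩ := exists_siegel hF (hW a ha a ha) hab hβ
  have hSM : S ∈ M := hM ⟨stab_of_forall fun x hx => by
    rw [hSx, hW x hx a ha, zero_smul, add_zero]
    exact W.add_mem hx (W.smul_mem _ ha), hS⟩
  refine move _ (centres_map hF hMK hSM hu) u' hu'u' (fun w hw => ?_) a ha ?_
  · rw [hSx]
    simp only [H_add_right hF, H_smul_right, hW w hw a ha, mul_zero, add_zero, hb, H_sub_right hF]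
    rw [← mul_assoc, ← mul_pow, mul_inv_cancel₀ hua, one_pow, one_mul, add_sub_cancel]
  · rw [hSx]
    simp only [H_add_right hF, H_smul_right, hab, hW a ha a ha, mul_zero, add_zero]
    simpa [hb, H_sub_right hF, hau'] using hau

theorem centre_move {M : Subgroup GLn} (hMK : M ≤ SUn) {v e : Vec} (hv : v ∈ centres q M)
    (he : e ∈ centres q M) {c : F} (hc : c + c ^ q = 0) :
    v + (c * H v e) • e ∈ centres q M := by
  obtain ⟨t, ht, htx⟩ := exists_tv hF he.1 hc
  have := centres_map hF hMK (he.2 t c hc htx) hv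
  rwa [htx] at this

/-- full centres on a hyperbolic pair are transitive on the vectors of its plane with given value -/
theorem centre_plane {M : Subgroup GLn} (hMK : M ≤ SUn) {a e f : Vec} (he : e ∈ centres q M)
    (hf : f ∈ centres q M) (hef : H e f = 1) (hae : H a e = 0) (haf : H a f = 0) {N : F} (hN : N ≠ 0)
    {x y x' y' : F} (h : a + (x • e + y • f) ∈ centres q M)
    (hxy : x * y ^ q + x ^ q * y = N) (hxy' : x' * y' ^ q + x' ^ q * y' = N) :
    a + (x' • e + y' • f) ∈ centres q M := by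
  have hfe : H f e = 1 := by rw [← H_conj hF, hef, one_pow]
  have σs : ∀ u : F, HermStd.qHom hF u = u ^ q := fun u => HermStd.qHom_apply hF u
  have hq0 : q ≠ 0 := q_ne_zero hF
  -- one transvection on either side
  have se : ∀ x x' y : F, y ≠ 0 → x * y ^ q + x ^ q * y = N → x' * y ^ q + x' ^ q * y = N →
      a + (x • e + y • f) ∈ centres q M → a + (x' • e + y • f) ∈ centres q M := by
    intro x x' y hy h1 h2 hv
    have hc : (x' - x) / y + ((x' - x) / y) ^ q = 0 := by
      rw [← σs, map_div₀, map_sub, σs, σs, σs]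
      have := pow_ne_zero q hy
      field_simp
      linear_combination h2 - h1
    have := centre_move hF hMK hv he hc
    rw [show H (a + (x • e + y • f)) e = y by
      simp [H_add_left, H_smul_left, hae, hfe, he.1], div_mul_cancel₀ _ hy] at this
    convert this using 1
    module
  have sf : ∀ x y y' : F, x ≠ 0 → x * y ^ q + x ^ q * y = N → x * y' ^ q + x ^ q * y' = N →
      a + (x • e + y • f) ∈ centres q M → a + (x • e + y' • f) ∈ centres q M := by
    intro x y y' hx h1 h2 hv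
    have hc : (y' - y) / x + ((y' - y) / x) ^ q = 0 := by
      rw [← σs, map_div₀, map_sub, σs, σs, σs]
      have := pow_ne_zero q hx
      field_simp
      linear_combination h2 - h1
    have := centre_move hF hMK hv hf hc
    rw [show H (a + (x • e + y • f)) f = x by
      simp [H_add_left, H_smul_left, haf, hef, hf.1], div_mul_cancel₀ _ hx] at this
    convert this using 1
    module
  have h0 : ∀ x y : F, x * y ^ q + x ^ q * y = N → x ≠ 0 ∧ y ≠ 0 := fun x y e0 =>
    ⟨fun hx => hN (by rw [← e0, hx, zero_pow hq0]; ring),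
      fun hy => hN (by rw [← e0, hy, zero_pow hq0]; ring)⟩
  have hNs : N ^ q = N := by
    rw [← hxy, ← σs, map_add, map_mul, map_mul, ← σs y, ← σs x, HermStd.qHom_qHom hF,
      HermStd.qHom_qHom hF]
    ring
  -- a coordinate independent of both second coordinates
  obtain ⟨z, hz, hz'⟩ : ∃ z : F, y ^ q * z - y * z ^ q ≠ 0 ∧ y' ^ q * z - y' * z ^ q ≠ 0 := by
    have hadd : ∀ w u v : F, w ^ q * (u + v) - w * (u + v) ^ q =
        (w ^ q * u - w * u ^ q) + (w ^ q * v - w * v ^ q) := fun w u v => by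
      rw [← σs (u + v), map_add, σs, σs]; ring
    obtain ⟨τ, hτ0, hτ⟩ := exists_trace_ne hF |>.elim fun t ht =>
      (⟨t, fun h => ht (by rw [h, zero_pow hq0, add_zero]), ht⟩ : ∃ t : F, t ≠ 0 ∧ t + t ^ q ≠ 0)
    obtain ⟨s, hs⟩ : ∃ s : F, s ^ q ≠ s := by
      by_contra hc
      push Not at hc
      exact HermStd.qHom_ne_id hF (RingHom.ext fun u => by rw [σs, hc u, RingHom.id_apply])
    have hex : ∀ w : F, w ≠ 0 → ∃ u : F, w ^ q * u - w * u ^ q ≠ 0 := fun w hw =>
      ⟨s * w, by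
        rw [mul_pow, show w ^ q * (s * w) - w * (s ^ q * w ^ q) = w ^ q * w * (s - s ^ q) by ring]
        exact mul_ne_zero (mul_ne_zero (pow_ne_zero _ hw) hw) (sub_ne_zero.2 (Ne.symm hs))⟩
    obtain ⟨u, hu⟩ := hex y (h0 x y hxy).2
    obtain ⟨v, hv⟩ := hex y' (h0 x' y' hxy').2
    by_cases hu' : y' ^ q * u - y' * u ^ q = 0
    · by_cases hv' : y ^ q * v - y * v ^ q = 0
      · exact ⟨u + v, by rwa [hadd, hv', add_zero], by rwa [hadd, hu', zero_add]⟩
      · exact ⟨v, hv', hv⟩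
    · exact ⟨u, hu, hu'⟩
  have hmid : ∀ y : F, y ^ q * z - y * z ^ q ≠ 0 → ∃ x₁ : F,
      x₁ * y ^ q + x₁ ^ q * y = N ∧ x₁ * z ^ q + x₁ ^ q * z = N := by
    intro y hD
    obtain ⟨D, hDdef⟩ : ∃ D, D = y ^ q * z - y * z ^ q := ⟨_, rfl⟩
    rw [← hDdef] at hD
    refine ⟨N * (z - y) / D, ?_⟩
    have hDq : D ^ q = -D := by
      rw [hDdef, ← σs, map_sub, map_mul, map_mul, map_pow, map_pow, σs, σs, pow_qq hF, pow_qq hF]
      ring
    rw [← σs (N * (z - y) / D), map_div₀, map_mul, map_sub, σs, σs, σs, σs, hNs, hDq]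
    constructor
    · field_simp
      rw [hDdef]
      ring
    · field_simp
      rw [hDdef]
      ring
  obtain ⟨x₁, h11, h12⟩ := hmid y hz
  obtain ⟨x₂, h21, h22⟩ := hmid y' hz'
  refine se x₂ x' y' (h0 x' y' hxy').2 h21 hxy' ?_
  refine sf x₂ z y' (h0 x₂ y' h21).1 h22 h21 ?_
  refine se x₁ x₂ z (h0 x₁ z h12).2 h12 h22 ?_
  exact sf x₁ y z (h0 x₁ y h11).1 h11 h12 (se x x₁ y (h0 x y hxy).2 hxy h11 h)

/-- full centres on one non-degenerate line and an element moving it give the whole group -/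
theorem sl_le_of_line (hn : n = 3) (hq : 3 ≤ q) {M : Subgroup GLn} (hMK : M ≤ SUn) {w : Vec}
    (hw : H w w ≠ 0) (hc : ∀ v, H v w = 0 → H v v = 0 → v ∈ centres q M) {g : GLn} (hgM : g ∈ M)
    (hgw : (g : Mat) *ᵥ w ∉ Submodule.span F {w}) : SUn ≤ M := by
  set W : Submodule F Vec := Submodule.span F {w} with hWdef
  have hw0 : w ≠ 0 := fun h => hw (by rw [h, H_zero_left])
  have hwW : w ∈ W := Submodule.mem_span_singleton_self w
  have hWn : ∀ x ∈ W, x ≠ 0 → H x x ≠ 0 := fun x hx hx0 => by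
    obtain ⟨s, rfl⟩ := Submodule.mem_span_singleton.1 hx
    have hs : s ≠ 0 := fun h => hx0 (by rw [h, zero_smul])
    rw [H_smul_left, H_smul_right]
    exact mul_ne_zero hs (mul_ne_zero (pow_ne_zero _ hs) hw)
  have hW : ∀ x ∈ W, x ≠ 0 → ∃ y ∈ W, H x y ≠ 0 := fun x hx hx0 => ⟨x, hx, hWn x hx hx0⟩
  have hdimW : Module.finrank F W = 1 := finrank_span_singleton hw0
  set U := perp q W with hU
  have hC : IsCompl W U := Cfsg.Agent.Forms.Max.Unitary.isCompl_perp hF hW
  have hUn : ∀ u ∈ U, u ≠ 0 → ∃ x ∈ U, H u x ≠ 0 := Cfsg.Agent.Forms.Max.Unitary.perp_nondeg hF hW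
  have hfin : Module.finrank F U + Module.finrank F W = n := finrank_perp hF W
  have hUW : ∀ w ∈ W, ∀ u ∈ U, H w u = 0 := fun w hw u hu => perp_symm hF hu hw
  have hWU : ∀ u ∈ U, ∀ w ∈ W, H u w = 0 := fun u hu w hw => mem_perp.1 hu w hw
  have hval : ∀ (a : Vec), a ∈ W → ∀ b ∈ U, H (a + b) (a + b) = H a a + H b b := fun a ha b hb => by
    simp only [H_add_left, H_add_right hF, hUW a ha b hb, hWU b hb a ha, add_zero, zero_add]
  have hgW : g ∉ Cfsg.Geo.subspaceStabilizer W := fun h => hgw (map_of_stab h hwW)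
  have hpure : ∀ v, H v v = 0 → v ∈ W ∨ v ∈ U → v ∈ centres q M := fun v hvv hv => by
    rcases hv with hv | hv
    · exact hc v (by
        obtain rfl : v = 0 := by
          by_contra h
          exact hWn v hv h hvv
        exact H_zero_left w) hvv
    · exact hc v (hWU v hv w hwW) hvv
  -- a mixed centre
  obtain ⟨a, ha, b, hb, ha0, hb0, hab⟩ :
      ∃ a ∈ W, ∃ b ∈ U, a ≠ 0 ∧ b ≠ 0 ∧ a + b ∈ centres q M := by
    by_contra hc
    push Not at hc
    have hin : ∀ v ∈ img g U, H v v = 0 → v ∈ W ∨ v ∈ U := by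
      intro v hv hvv
      obtain ⟨x, hx, rfl⟩ := mem_img.1 hv
      rw [SUn_H (hMK hgM)] at hvv
      obtain ⟨a, ha, b, hb, e⟩ := Submodule.mem_sup.1
        (hC.sup_eq_top ▸ Submodule.mem_top : (g : Mat) *ᵥ x ∈ W ⊔ U)
      by_cases ha0 : a = 0
      · right; rw [← e, ha0, zero_add]; exact hb
      by_cases hb0 : b = 0
      · left; rw [← e, hb0, add_zero]; exact ha
      exact absurd (e ▸ centres_map hF hMK hgM (hpure x hvv (Or.inr hx))) (hc a ha b hb ha0 hb0)
    have hgn : ∀ v ∈ img g U, v ≠ 0 → ∃ x ∈ img g U, H v x ≠ 0 := by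
      intro v hv hv0
      obtain ⟨x, hx, rfl⟩ := mem_img.1 hv
      obtain ⟨y, hy, hxy⟩ := hUn x hx fun h => hv0 (by rw [h, mulVec_zero])
      exact ⟨_, mulVec_mem_img hy, by rwa [SUn_H (hMK hgM)]⟩
    have h2 : 2 ≤ Module.finrank F (img g U) := by rw [finrank_img]; omega
    obtain ⟨y, hy, hyy, hyW⟩ : ∃ y ∈ img g U, H y y = 0 ∧ y ∉ W := by
      by_contra h'
      push Not at h'
      have := Submodule.finrank_mono (iso_span hF hgn h2 h')
      rw [finrank_img] at this
      omega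
    have hyU := (hin y hy hyy).resolve_left hyW
    have hgU : img g U ≤ U := by
      refine iso_span hF hgn h2 fun x hx hxx => ?_
      by_contra hxU
      have hxW := (hin x hx hxx).resolve_right hxU
      rcases hin _ ((img g U).add_mem hx hy) (by rw [hval x hxW y hyU, hxx, hyy, add_zero]) with h | h
      · exact hyW ((W.add_mem_iff_right hxW).1 h)
      · exact hxU ((U.add_mem_iff_left hyU).1 h)
    have heq : img g U = U := Submodule.eq_of_le_of_finrank_eq hgU (finrank_img g U)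
    refine hgW (stab_of_forall fun w hw => ?_)
    rw [← perp_perp hF W, ← hU]
    refine mem_perp.2 fun v hv => ?_
    rw [← heq] at hv
    obtain ⟨x, hx, rfl⟩ := mem_img.1 hv
    rw [SUn_H (hMK hgM)]
    exact hUW w hw x hx
  obtain ⟨e, he, he0, hee⟩ := exists_iso hF hUn (by omega)
  obtain ⟨f, hf, hff, hef⟩ := exists_iso_partner hF hUn he he0 hee
  have hfe : H f e = 1 := by rw [← H_conj hF, hef, one_pow]
  -- coordinates in the plane
  have hcoord : ∀ y ∈ U, y = H y f • e + H y e • f := by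
    intro y hy
    by_contra hne
    obtain ⟨x, hx, hyx⟩ := hUn _ (U.sub_mem hy (U.add_mem (U.smul_mem (H y f) he) (U.smul_mem (H y e) hf)))
      (sub_ne_zero.2 hne)
    refine hyx ?_
    have hli : LinearIndependent F ![e, f] := LinearIndependent.pair_iff.2 fun s t e0 => by
      have e1 := congrArg (fun v => H v f) e0
      have e2 := congrArg (fun v => H v e) e0
      simp only [H_add_left, H_smul_left, hef, hff, hee, hfe, H_zero_left, mul_one, mul_zero,
        add_zero, zero_add] at e1 e2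
      exact ⟨e1, e2⟩
    have hspan : Submodule.span F {e, f} = U := by
      refine Submodule.eq_of_le_of_finrank_le (Submodule.span_le.2 ?_) ?_
      · intro v hv
        simp only [Set.mem_insert_iff, Set.mem_singleton_iff] at hv
        rcases hv with rfl | rfl
        exacts [he, hf]
      · have := finrank_span_eq_card hli
        rw [Matrix.range_cons_cons_empty, Fintype.card_fin] at this
        rw [this]
        omega
    rw [← hspan, Submodule.mem_span_pair] at hx
    obtain ⟨s, t, rfl⟩ := hx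
    simp [H_add_right hF, H_smul_right, H_sub_left, H_add_left, H_smul_left, hee, hff, hef, hfe]
  refine SUn_le_three hF hn hq fun v hvv => ?_
  obtain ⟨a', ha', b', hb', rfl⟩ := Submodule.mem_sup.1
    (hC.sup_eq_top ▸ Submodule.mem_top : v ∈ W ⊔ U)
  by_cases ha0' : a' = 0
  · exact hpure _ hvv (Or.inr (by rwa [ha0', zero_add]))
  obtain ⟨k, hk⟩ := Submodule.mem_span_singleton.1 ha
  obtain ⟨k', hk'⟩ := Submodule.mem_span_singleton.1 ha'
  have hk0 : k ≠ 0 := fun h => ha0 (by rw [← hk, h, zero_smul])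
  have hscal : a' = (k' / k) • a := by rw [← hk, ← hk', smul_smul, div_mul_cancel₀ _ hk0]
  have hab' := centres_smul hF (k' / k) hab
  rw [smul_add, ← hscal] at hab'
  obtain ⟨b₁, hb₁, hb₁U⟩ : ∃ b₁, a' + b₁ ∈ centres q M ∧ b₁ ∈ U := ⟨_, hab', U.smul_mem _ hb⟩
  have e1 := hb₁.1
  rw [hval a' ha' b₁ hb₁U] at e1
  rw [hval a' ha' b' hb'] at hvv
  have hN : ∀ y ∈ U, H y y = H y f * (H y e) ^ q + (H y f) ^ q * H y e := fun y hy => by
    conv_lhs => rw [hcoord y hy]
    simp only [H_add_left, H_add_right hF, H_smul_left, H_smul_right, hee, hff, hef, hfe]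
    ring
  have hn0 : H b' b' ≠ 0 := fun h => hWn a' ha' ha0' (by rwa [h, add_zero] at hvv)
  rw [hcoord b' hb']
  rw [hcoord b₁ hb₁U] at hb₁
  exact centre_plane hF hMK (hpure e hee (Or.inr he)) (hpure f hff (Or.inr hf)) hef
    (hUW a' ha' e he) (hUW a' ha' f hf) hn0 hb₁
    ((hN b₁ hb₁U).symm.trans (by linear_combination e1 - hvv)) (hN b' hb').symm

theorem nondeg_maximal_three (hn : n = 3) (hq : 3 ≤ q) (W : Submodule F Vec) (hW0 : W ≠ ⊥)
    (hW : ∀ w ∈ W, w ≠ 0 → ∃ x ∈ W, H w x ≠ 0) (hdim : 2 * Module.finrank F W < n) :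
    Cfsg.Geo.IsMaximalIn SUn (Cfsg.Geo.subspaceStabilizer W ⊓ SUn) := by
  set U := perp q W with hU
  have hC : IsCompl W U := Cfsg.Agent.Forms.Max.Unitary.isCompl_perp hF hW
  have hUn : ∀ u ∈ U, u ≠ 0 → ∃ x ∈ U, H u x ≠ 0 := Cfsg.Agent.Forms.Max.Unitary.perp_nondeg hF hW
  have hfin : Module.finrank F U + Module.finrank F W = n := finrank_perp hF W
  have hUW : ∀ w ∈ W, ∀ u ∈ U, H w u = 0 := fun w hw u hu => perp_symm hF hu hw
  have hWU : ∀ u ∈ U, ∀ w ∈ W, H u w = 0 := fun u hu w hw => mem_perp.1 hu w hw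
  have hval : ∀ (a : Vec), a ∈ W → ∀ b ∈ U, H (a + b) (a + b) = H a a + H b b := fun a ha b hb => by
    simp only [H_add_left, H_add_right hF, hUW a ha b hb, hWU b hb a ha, add_zero, zero_add]
  refine isMaximalIn_of inf_le_right (fun h => ?_) fun M hM hMK g hgM hg => ?_
  · obtain ⟨a, ha, haa⟩ := exists_value hF hW0 hW (one_pow q) one_ne_zero
    obtain ⟨b, hb, hbb⟩ := exists_value hF (fun h' => by rw [h', finrank_bot] at hfin; omega) hUn
      (d := -1) (by rw [← HermStd.qHom_apply hF, map_neg, map_one]) (neg_ne_zero.2 one_ne_zero)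
    have hv : H (a + b) (a + b) = 0 := by rw [hval a ha b hb, haa, hbb, add_neg_cancel]
    obtain ⟨c, hc0, hc⟩ := exists_traceZero hF
    obtain ⟨t, ht, htx⟩ := exists_tv hF hv hc
    have h1 := (W.add_mem_iff_right ha).1 (by simpa only [htx] using map_of_stab (h ht).1 ha)
    rw [H_add_right hF, haa, hUW a ha b hb, add_zero, mul_one] at h1
    have h2 : a + b ∈ W := by simpa [smul_smul, inv_mul_cancel₀ hc0] using W.smul_mem c⁻¹ h1
    have hb0 : b = 0 := Submodule.disjoint_def.1 hC.disjoint b ((W.add_mem_iff_right ha).1 h2) hb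
    rw [hb0, H_zero_left] at hbb
    exact neg_ne_zero.2 one_ne_zero hbb.symm
  have hgW : g ∉ Cfsg.Geo.subspaceStabilizer W := fun h => hg ⟨h, hMK hgM⟩
  have hpure : ∀ v, H v v = 0 → v ∈ W ∨ v ∈ U → v ∈ centres q M := fun v hvv hv =>
    centres_of_stab hF hM hvv fun w hw t => by
      rcases hv with hv | hv
      · exact W.add_mem hw (W.smul_mem _ hv)
      · rw [hUW w hw v hv, mul_zero, zero_smul, add_zero]; exact hw
  obtain ⟨w, hwW, hw0⟩ := Submodule.exists_mem_ne_zero_of_ne_bot hW0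
  have hW1 : W = Submodule.span F {w} := (Submodule.eq_of_le_of_finrank_le
    ((Submodule.span_singleton_le_iff_mem _ _).2 hwW) (by rw [finrank_span_singleton hw0]; omega)).symm
  have hww : H w w ≠ 0 := fun h0 => by
    obtain ⟨x, hx, hwx⟩ := hW w hwW hw0
    rw [hW1] at hx
    obtain ⟨s, rfl⟩ := Submodule.mem_span_singleton.1 hx
    exact hwx (by rw [H_smul_right, h0, mul_zero])
  refine sl_le_of_line hF hn hq hMK hww (fun v hvw hvv => hpure v hvv (Or.inr (mem_perp.2 fun x hx => ?_)))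
    hgM fun hgw => hgW (stab_of_forall fun x hx => ?_)
  · rw [hW1] at hx
    obtain ⟨s, rfl⟩ := Submodule.mem_span_singleton.1 hx
    rw [H_smul_right, hvw, mul_zero]
  · rw [hW1] at hx
    obtain ⟨s, rfl⟩ := Submodule.mem_span_singleton.1 hx
    rw [mulVec_smul, hW1]
    exact Submodule.smul_mem _ _ hgw

omit hF in
theorem singular (hF : Fintype.card F = q ^ 2) (hq : 3 ≤ q) :
    ∀ W : Submodule F (Fin 3 → F), W ≠ ⊥ → Cfsg.Geo.IsTotallySingularFor (Cfsg.hermForm 3 F q) W → Cfsg.Geo.IsMaximalIn (Cfsg.GU 3 F q ⊓ Cfsg.Geo.specialLinear (Fin 3) F) (Cfsg.Geo.subspaceStabilizer W ⊓ (Cfsg.GU 3 F q ⊓ Cfsg.Geo.specialLinear (Fin 3) F)) :=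
  fun W hW0 hW => singular_maximal_three hF rfl hq W hW0 hW

omit hF in
theorem nondeg (hF : Fintype.card F = q ^ 2) (hq : 3 ≤ q) :
    ∀ W : Submodule F (Fin 3 → F), W ≠ ⊥ → Cfsg.Geo.IsNondegenerateOn (Cfsg.hermForm 3 F q) W → 2 * Module.finrank F W < 3 → Cfsg.Geo.IsMaximalIn (Cfsg.GU 3 F q ⊓ Cfsg.Geo.specialLinear (Fin 3) F) (Cfsg.Geo.subspaceStabilizer W ⊓ (Cfsg.GU 3 F q ⊓ Cfsg.Geo.specialLinear (Fin 3) F)) :=
  fun W hW0 hW hd => nondeg_maximal_three hF rfl hq W hW0 (fun w hw hw0 => (hW w hw hw0).2) hd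

end Cfsg.Agent.Forms.Max.SU3.Subspace
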