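import Cfsg.Agent.Lib.Forms.Max.SU3.Emb

/-!
# Two full transvection groups fill their line
-/

set_option autoImplicit false
set_option linter.unusedSectionVars false

namespace Cfsg.Agent.Forms.Max.SU3

open Matrix Cfsg.Agent.Classical.Unitary

universe u

variable {F : Type u} [Field F] [Fintype F] {q : ℕ}

local notation "Vec" => (Fin 3 → F)
local notation "H" => Cfsg.hermForm 3 F q
local notation "GL3" => GL (Fin 3) F
local notation "SUn" => (Cfsg.GU 3 F q ⊓ Cfsg.Geo.specialLinear (Fin 3) F)

/-- all isotropic vectors of the line through two centres are centres -/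
theorem centres_line (hF : Fintype.card F = q ^ 2) {M : Subgroup GL3} (hM : M ≤ SUn) {u v : Vec}
    (hu : u ∈ Unitary.centres q M) (hv : v ∈ Unitary.centres q M) (huv : H u v ≠ 0) {α β : F}
    (hx : H (α • u + β • v) (α • u + β • v) = 0) : α • u + β • v ∈ Unitary.centres q M := by
  by_cases hα : α = 0
  · rw [hα, zero_smul, zero_add]
    exact Unitary.centres_smul hF β hv
  -- `α⁻¹ • x = u + γ • v`
  set γ := β / α with hγ
  have hvu : H v u = (H u v) ^ q := (H_conj hF u v).symm
  have hγ0 : γ ^ q * H u v + γ * (H u v) ^ q = 0 := by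
    have e : α • u + β • v = α • (u + γ • v) := by
      rw [smul_add, smul_smul, hγ, mul_div_cancel₀ _ hα]
    rw [e, H_smul_left, H_smul_right, ← mul_assoc] at hx
    have h := (mul_eq_zero.1 hx).resolve_left (mul_ne_zero hα (pow_ne_zero _ hα))
    simp only [H_add_left, H_add_right hF, H_smul_left, H_smul_right, hu.1, hv.1, hvu] at h
    linear_combination h
  have hc : γ / H u v + (γ / H u v) ^ q = 0 := by
    rw [div_pow]
    field_simp
    linear_combination hγ0
  obtain ⟨t, -, ht⟩ := Unitary.exists_tv hF hv.1 hc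
  have h := Unitary.centres_map hF hM (hv.2 t _ hc ht) hu
  rw [ht, div_mul_cancel₀ _ huv] at h
  have := Unitary.centres_smul hF α h
  rwa [smul_add, smul_smul, hγ, mul_div_cancel₀ _ hα] at this

end Cfsg.Agent.Forms.Max.SU3
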