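import Cfsg.Agent.Lib.Forms.Max.SU3.Emb
import Cfsg.Agent.Lib.Forms.KleinPSL

/-!
# The action of the stabiliser of an anisotropic point on the orthogonal plane

The plane part of an element of the stabiliser has determinant of norm one, hence a square, which gives a homomorphism
into the projective special linear group of the plane.
-/

set_option autoImplicit false
set_option linter.unusedSectionVars false

namespace Cfsg.Agent.Forms.Max.SU3.Plane

open Matrix Cfsg.Agent.Classical Cfsg.Agent.Classical.Unitary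
open Cfsg.Agent.SimpleFacts.MinIndexPSUThree Cfsg.Agent.SimpleFacts.MinIndexPSUThree.Borel
open Cfsg.Agent.SimpleFacts.MinIndexPSUThree.Plane
open scoped MatrixGroups

universe u

variable {F : Type u} [Field F] [Fintype F] {q : ℕ}

local notation "Vec" => (Fin 3 → F)
local notation "H" => Cfsg.hermForm 3 F q
local notation "SU3" => Cfsg.SU 3 F q
local notation "PG" => Matrix.ProjectiveSpecialLinearGroup (Fin 2) F

/-- the matrix on the plane -/
def pm (B : Frame F q) (k : Cfsg.SU 3 F q) : Matrix (Fin 2) (Fin 2) F :=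
  !![Cfsg.hermForm 3 F q (mat k *ᵥ B.e) B.f, Cfsg.hermForm 3 F q (mat k *ᵥ B.f) B.f;
     Cfsg.hermForm 3 F q (mat k *ᵥ B.e) B.e, Cfsg.hermForm 3 F q (mat k *ᵥ B.f) B.e]

variable (hF : Fintype.card F = q ^ 2) (B : Frame F q)
include hF

theorem pm_one : pm B (1 : SU3) = 1 := by
  rw [pm, mat_one, one_mulVec, one_mulVec, B.hef, B.hf, B.he, hfe hF B, Matrix.one_fin_two]

theorem pm_mul {k l : SU3} (hk : k ∈ fixLine F q B.w) (hl : l ∈ fixLine F q B.w) :
    pm B (k * l) = pm B k * pm B l := by
  obtain ⟨hke, hkf⟩ := coeffs hF B ⟨k, hk⟩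
  obtain ⟨hle, hlf⟩ := coeffs hF B ⟨l, hl⟩
  rw [pm, mul_mulVec, mul_mulVec]
  conv_lhs => rw [hle, hlf]
  simp only [Matrix.mulVec_add, Matrix.mulVec_smul, H_add_left, H_smul_left]
  rw [pm, pm, Matrix.mul_fin_two]
  ext i j
  fin_cases i <;> fin_cases j <;> simp <;> ring

theorem det_pm {k : SU3} (hk : k ∈ fixLine F q B.w) : (pm B k).det ^ (q + 1) = 1 := by
  obtain ⟨he, hf⟩ := coeffs hF B ⟨k, hk⟩
  have h1 := SU_H k B.e B.f
  have h2 := SU_H k B.e B.e
  have h3 := SU_H k B.f B.f
  rw [he, hf, B.hef] at h1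
  rw [he, B.he] at h2
  rw [hf, B.hf] at h3
  simp [H_add_left, H_add_right hF, H_smul_left, H_smul_right, B.he, B.hf, B.hef, hfe hF B] at h1 h2 h3
  obtain ⟨-, -, h⟩ := plane_rel hF (A := H (mat k *ᵥ B.e) B.f) (B := H (mat k *ᵥ B.f) B.f)
    (C := H (mat k *ᵥ B.e) B.e) (D := H (mat k *ᵥ B.f) B.e) (by linear_combination h1)
    (by linear_combination h2) (by linear_combination h3)
  rw [pm, Matrix.det_fin_two_of]
  exact h

/-- a norm one element is a square -/
theorem isSquare_of_norm_one {d : F} (hd : d ^ (q + 1) = 1) : IsSquare d := by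
  by_cases h2 : ringChar F = 2
  · exact FiniteField.isSquare_of_char_two h2 d
  have hd0 : d ≠ 0 := fun h => by rw [h, zero_pow (by omega)] at hd; exact zero_ne_one hd
  rw [FiniteField.isSquare_iff h2 hd0]
  have hodd := FiniteField.odd_card_of_char_ne_two h2
  rw [hF] at hodd ⊢
  obtain ⟨j, rfl⟩ : Odd q := (Nat.odd_pow_iff two_ne_zero).1 (Nat.odd_iff.2 hodd)
  have e : (2 * j + 1) ^ 2 / 2 = (2 * j + 1 + 1) * j := by
    have h : (2 * j + 1) ^ 2 = 2 * ((2 * j + 1 + 1) * j) + 1 := by ring
    omega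
  rw [e, pow_mul, hd, one_pow]

/-- a square root of the determinant -/
noncomputable def sc (k : fixLine F q B.w) : F :=
  (isSquare_of_norm_one hF (det_pm hF B k.2)).choose

theorem sc_mul_self (k : fixLine F q B.w) : sc hF B k * sc hF B k = (pm B (k : SU3)).det :=
  (isSquare_of_norm_one hF (det_pm hF B k.2)).choose_spec.symm

theorem sc_ne_zero (k : fixLine F q B.w) : sc hF B k ≠ 0 := fun h => by
  have h1 := det_pm hF B k.2
  rw [← sc_mul_self hF B k, h, mul_zero, zero_pow (by omega)] at h1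
  exact zero_ne_one h1

/-- the plane part, scaled to determinant one -/
noncomputable def sm (k : fixLine F q B.w) : SL(2, F) :=
  ⟨(sc hF B k)⁻¹ • pm B (k : SU3), by
    rw [Matrix.det_smul, Fintype.card_fin, ← sc_mul_self hF B k, pow_two]
    field_simp [sc_ne_zero hF B k]⟩

theorem pi_eq_of {X Y : SL(2, F)} {s : F} (hs : s * s = 1) (h : (X : Matrix (Fin 2) (Fin 2) F) = s • Y) :
    KleinPSL.pi F X = KleinPSL.pi F Y := by
  rw [KleinPSL.pi_eq_iff]
  rcases mul_self_eq_one_iff.1 hs with rfl | rfl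
  · exact Or.inl (Subtype.ext (by rw [h, one_smul]))
  · exact Or.inr (Subtype.ext (by rw [h, Matrix.SpecialLinearGroup.coe_neg, neg_smul, one_smul]))

/-- the action on the plane -/
noncomputable def planeHom : fixLine F q B.w →* PG :=
  MonoidHom.mk' (fun k => KleinPSL.pi F (sm hF B k)) fun k l => by
    rw [← map_mul]
    have hk := sc_ne_zero hF B k
    have hl := sc_ne_zero hF B l
    have hkl := sc_ne_zero hF B (k * l)
    have hd : sc hF B (k * l) * sc hF B (k * l) = sc hF B k * sc hF B k * (sc hF B l * sc hF B l) := by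
      rw [sc_mul_self, sc_mul_self, sc_mul_self, Subgroup.coe_mul, pm_mul hF B k.2 l.2, Matrix.det_mul]
    refine pi_eq_of hF (s := sc hF B k * sc hF B l / sc hF B (k * l)) ?_ ?_
    · field_simp
      linear_combination -hd
    · show (sc hF B (k * l))⁻¹ • pm B ((k * l : fixLine F q B.w) : SU3) = _
      rw [Matrix.SpecialLinearGroup.coe_mul]
      show _ = (_ : F) • (((sc hF B k)⁻¹ • pm B (k : SU3)) * ((sc hF B l)⁻¹ • pm B (l : SU3)))
      rw [Subgroup.coe_mul, pm_mul hF B k.2 l.2, Matrix.smul_mul, Matrix.mul_smul, smul_smul, smul_smul]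
      congr 1
      field_simp

theorem planeHom_eq_one (k : fixLine F q B.w) : planeHom hF B k = 1 ↔ Scalar B (k : SU3) := by
  show KleinPSL.pi F (sm hF B k) = 1 ↔ _
  obtain ⟨he, hf⟩ := coeffs hF B k
  constructor
  · intro h
    obtain ⟨r, hr⟩ : ∃ r : F, pm B (k : SU3) = r • 1 := by
      rcases KleinPSL.pi_eq_one.1 h with h | h <;>
        have := congrArg (fun X : SL(2, F) => sc hF B k • (X : Matrix (Fin 2) (Fin 2) F)) h <;>
        simp only [sm, smul_smul, mul_inv_cancel₀ (sc_ne_zero hF B k), one_smul,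
          Matrix.SpecialLinearGroup.coe_neg, Matrix.SpecialLinearGroup.coe_one, smul_neg] at this
      · exact ⟨_, this⟩
      · exact ⟨-sc hF B k, by rw [this, neg_smul]⟩
    have h00 := congrFun (congrFun hr 0) 0
    have h01 := congrFun (congrFun hr 0) 1
    have h10 := congrFun (congrFun hr 1) 0
    have h11 := congrFun (congrFun hr 1) 1
    simp [pm] at h00 h01 h10 h11
    exact ⟨r, by rw [he, h00, h10, zero_smul, add_zero], by rw [hf, h01, h11, zero_smul, zero_add]⟩
  · rintro ⟨r, hre, hrf⟩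
    have hpm : pm B (k : SU3) = r • 1 := by
      rw [pm, hre, hrf]
      ext i j
      fin_cases i <;> fin_cases j <;>
        simp [H_smul_left, B.he, B.hf, B.hef, hfe hF B]
    refine (pi_eq_of hF (Y := 1) (s := (sc hF B k)⁻¹ * r) ?_ ?_).trans (map_one _)
    · have h := sc_mul_self hF B k
      rw [hpm, Matrix.det_smul, Matrix.det_one, Fintype.card_fin, mul_one, pow_two] at h
      have := sc_ne_zero hF B k
      field_simp
      linear_combination -h
    · show (sc hF B k)⁻¹ • pm B (k : SU3) = _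
      rw [hpm, smul_smul, Matrix.SpecialLinearGroup.coe_one]

/-- an element of prime power order moving the plane is a transvection with centre on the plane -/
theorem exists_centre {p : ℕ} [Fact p.Prime] [CharP F p] {k : fixLine F q B.w}
    (hk : ¬ Scalar B (k : SU3)) {i : ℕ} (hi : k ^ p ^ i = 1) :
    ∃ B' : Frame F q, B'.w = B.w ∧ (k : SU3) ∈ Group.Zg F q B'.e := by
  obtain ⟨b, hb, hkw⟩ := k.2
  have hpow : ∀ (v : Vec) (a : F), mat (k : SU3) *ᵥ v = a • v → ∀ n : ℕ,
      mat (((k ^ n : fixLine F q B.w) : SU3)) *ᵥ v = a ^ n • v := by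
    intro v a h n
    induction n with
    | zero => simp [mat_one]
    | succ n ih =>
      rw [pow_succ', Subgroup.coe_mul, mul_mulVec, ih, Matrix.mulVec_smul, h, smul_smul, pow_succ]
  have hone : ∀ (v : Vec) (a : F), v ≠ 0 → mat (k : SU3) *ᵥ v = a • v → a = 1 := by
    intro v a hv h
    have h1 := hpow v a h (p ^ i)
    rw [hi, OneMemClass.coe_one, mat_one, one_mulVec] at h1
    have h2 : a ^ p ^ i = 1 := (smul_left_injective F hv (show a ^ p ^ i • v = (1 : F) • v by rw [one_smul, ← h1]))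
    have h3 := (ExpChar.pow_prime_pow_mul_eq_one_iff p i 1 a).1 (by rw [mul_one]; exact h2)
    rwa [pow_one] at h3
  rcases fixed_count hF B p k hk with h | ⟨h, -, hiso⟩
  · exfalso
    have : Nontrivial {l : PlanePt F q B.w // k • l = l} :=
      Finite.one_lt_card_iff_nontrivial.1 (by rw [h]; norm_num)
    obtain ⟨⟨l, hl⟩, ⟨l', hl'⟩, hne⟩ := exists_pair_ne {l : PlanePt F q B.w // k • l = l}
    obtain ⟨u, hu, hu', rfl⟩ := exists_pl l
    obtain ⟨v, hv, hv', rfl⟩ := exists_pl l'
    obtain ⟨s, hs⟩ := (fixed_iff k hu hu').1 hl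
    obtain ⟨t, ht⟩ := (fixed_iff k hv hv').1 hl'
    rw [hone u s hu hs, one_smul] at hs
    rw [hone v t hv ht, one_smul] at ht
    apply hk
    have hind : LinearIndependent F ![u, v] := by
      rw [LinearIndependent.pair_iff' hu]
      intro a ha
      exact hne (Subtype.ext (((pl_eq_pl (hu := hu) (hu' := hv) (h := hu') (h' := hv')).2 ⟨a⁻¹, by
        rw [← ha, smul_smul, inv_mul_cancel₀ (fun e => hv (by rw [← ha, e, zero_smul])), one_smul]⟩)))
    have hfix : ∀ x : Vec, H x B.w = 0 → mat (k : SU3) *ᵥ x = x := by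
      intro x hx
      have hu2 := plane_decomp hF B hu'
      have hv2 := plane_decomp hF B hv'
      have hD : H u B.f * H v B.e - H u B.e * H v B.f ≠ 0 := by
        intro hD
        have e := LinearIndependent.pair_iff.1 hind
        have e1 := e (H v B.e) (- H u B.e) (by
          have h0 : (H u B.f * H v B.e - H u B.e * H v B.f) • B.e = 0 := by rw [hD, zero_smul]
          linear_combination (norm := module) H v B.e • hu2 - H u B.e • hv2 + h0)
        have e2 := e (H v B.f) (- H u B.f) (by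
          have h0 : (H u B.f * H v B.e - H u B.e * H v B.f) • B.f = 0 := by rw [hD, zero_smul]
          linear_combination (norm := module) H v B.f • hu2 - H u B.f • hv2 - h0)
        exact hu (by rw [hu2, neg_eq_zero.1 e2.2, neg_eq_zero.1 e1.2, zero_smul, zero_smul, add_zero])
      have key : (H u B.f * H v B.e - H u B.e * H v B.f) • x =
          (H x B.f * H v B.e - H x B.e * H v B.f) • u + (H u B.f * H x B.e - H u B.e * H x B.f) • v := by
        linear_combination (norm := module) (H u B.f * H v B.e - H u B.e * H v B.f) • plane_decomp hF B hx -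
          (H x B.f * H v B.e - H x B.e * H v B.f) • hu2 - (H u B.f * H x B.e - H u B.e * H x B.f) • hv2
      refine smul_right_injective Vec hD ?_
      simp only
      rw [← Matrix.mulVec_smul, key, Matrix.mulVec_add, Matrix.mulVec_smul, Matrix.mulVec_smul, hs, ht]
    exact ⟨1, by rw [hfix _ (hew hF B), one_smul], by rw [hfix _ (hfw hF B), one_smul]⟩
  obtain ⟨⟨l, hl⟩⟩ : Nonempty {l : PlanePt F q B.w // k • l = l} :=
    Finite.card_pos_iff.1 (by omega)
  have hll := hiso l hl
  obtain ⟨u, hu, hu', rfl⟩ := exists_pl l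
  obtain ⟨a, ha0, ha⟩ := rep_mk u hu
  have huu : H u u = 0 := by
    change H (Projectivization.mk F u hu).rep (Projectivization.mk F u hu).rep = 0 at hll
    rw [ha, H_smul_left, H_smul_right, ← mul_assoc] at hll
    exact (mul_eq_zero.1 hll).resolve_left (mul_ne_zero ha0 (pow_ne_zero _ ha0))
  obtain ⟨s, hs⟩ := (fixed_iff k hu hu').1 hl
  rw [hone u s hu hs, one_smul] at hs
  have hkw' : mat (k : SU3) *ᵥ B.w = B.w := by rw [hkw, hone B.w b (w_ne B) hkw, one_smul]
  obtain ⟨f', hf', hff', huf'⟩ : ∃ f' : Vec, H B.w f' = 0 ∧ H f' f' = 0 ∧ H u f' = 1 := by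
    have hu2 := plane_decomp hF B hu'
    by_cases hα : H u B.f = 0
    · have hβ : H u B.e ≠ 0 := fun h => hu (by rw [hu2, hα, h, zero_smul, zero_smul, add_zero])
      exact ⟨((H u B.e)⁻¹) ^ q • B.e, by rw [H_smul_right, B.hwe, mul_zero],
        by rw [H_smul_left, H_smul_right, B.he, mul_zero, mul_zero],
        by rw [H_smul_right, pow_qq hF, inv_mul_cancel₀ hβ]⟩
    · exact ⟨((H u B.f)⁻¹) ^ q • B.f, by rw [H_smul_right, B.hwf, mul_zero],
        by rw [H_smul_left, H_smul_right, B.hf, mul_zero, mul_zero],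
        by rw [H_smul_right, pow_qq hF, inv_mul_cancel₀ hα]⟩
  refine ⟨⟨u, f', B.w, huu, hff', huf', (H_eq_zero_comm hF).1 hu', hf', B.hww⟩, rfl, ?_⟩
  rw [Group.mem_Zg_iff hF]
  exact ⟨hs, by rw [phi]; show H (mat (k : SU3) *ᵥ B.w) f' = 0; rw [hkw', hf']⟩

end Cfsg.Agent.Forms.Max.SU3.Plane
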