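import Mathlib
import Cfsg.Agent.Lib.Forms.Max.SU3.Orth.Axes
import Cfsg.Agent.Lib.Forms.Max.SU3.Orth.Root

/-!
# Real orthogonal groups are maximal in three-dimensional unitary groups

An overgroup without transvections at rational points has rational stabilisers of all rational anisotropic points.  Since
involutions with split and non-split axes are not conjugate in it, it is the subfield group.
-/

set_option autoImplicit false
set_option linter.unusedSectionVars false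

namespace Cfsg.Agent.Forms.Max.SU3.Orth

open Matrix Cfsg.Agent.Classical Cfsg.Agent.Classical.Unitary
open SubfieldUnitary (InM)
open SU4.Orth (Data rv rv_add rv_smul rv_sub rv_neg rv_zero rv_eq_zero fix_iff pow_q_coe th th_ne th_q th_skew
  th_not_mem hrat hB refl' hH0 dual two_ne two_ne')

universe u

variable {F : Type u} [Field F] [Fintype F] {q : ℕ}

local notation "Idx" => (Fin 3)
local notation "Vec" => (Fin 3 → F)
local notation "Mat" => Matrix (Fin 3) (Fin 3) F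
local notation "GLn" => GL (Fin 3) F
local notation "H" => Cfsg.hermForm 3 F q
local notation "SUn" => (Cfsg.GU 3 F q ⊓ Cfsg.Geo.specialLinear (Fin 3) F)
local notation "BF" => SU4.Orth.B

variable {D : Data F q 3}

/-- a reflection with given axis fixes only the axis -/
theorem Tri.fixed_line (T : Tri D) {h : GLn} (h1 : (h : Mat) *ᵥ T.u1 = -T.u1) (h2 : (h : Mat) *ᵥ T.u2 = -T.u2)
    (h3 : (h : Mat) *ᵥ T.u3 = T.u3) {v : Vec} (hv : (h : Mat) *ᵥ v = v) : v = (H v T.u3 / T.d3) • T.u3 := by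
  have hd := T.expand v
  have hhd := congrArg (fun y => (h : Mat) *ᵥ y) hd
  simp only [hv, mulVec_add, mulVec_smul, h1, h2, h3, smul_neg] at hhd
  have hsum : (2 : F) • ((H v T.u1 / T.d1) • T.u1 + (H v T.u2 / T.d2) • T.u2) = 0 := by
    linear_combination (norm := module) hhd - hd
  refine hd.trans ?_
  rw [(smul_eq_zero.1 hsum).resolve_left (two_ne D), zero_add]

theorem dihedral_facts {G : Type*} [Group G] {a b : G} (ha : a * a = 1) (hb : b * b = 1) (m : ℕ) :
    a * (a * b) ^ m = ((a * b) ^ m)⁻¹ * a ∧ b * (a * b) ^ m = ((a * b) ^ m)⁻¹ * b := by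
  have ha' : a⁻¹ = a := inv_eq_of_mul_eq_one_right ha
  have hb' : b⁻¹ = b := inv_eq_of_mul_eq_one_right hb
  constructor
  · induction m with
    | zero => simp
    | succ m ih =>
      calc a * (a * b) ^ (m + 1) = (a * (a * b) ^ m) * (a * b) := by rw [pow_succ, mul_assoc]
        _ = ((a * b) ^ m)⁻¹ * b := by rw [ih, mul_assoc, ← mul_assoc a a b, ha, one_mul]
        _ = ((a * b) ^ (m + 1))⁻¹ * a := by
          rw [pow_succ', _root_.mul_inv_rev, _root_.mul_inv_rev, ha', hb', mul_assoc, mul_assoc, ha, mul_one]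
  · induction m with
    | zero => simp
    | succ m ih =>
      calc b * (a * b) ^ (m + 1) = (b * (a * b) ^ m) * (a * b) := by rw [pow_succ, mul_assoc]
        _ = ((a * b) ^ m)⁻¹ * (b * a * b) := by rw [ih]; simp only [mul_assoc]
        _ = ((a * b) ^ (m + 1))⁻¹ * b := by
          rw [pow_succ', _root_.mul_inv_rev, _root_.mul_inv_rev, ha', hb']; simp only [mul_assoc]

/-- the multiplier of a rational element whose square is one -/
theorem involution_rational {u : GLn} (hu2 : u * u = 1) (hdet : (u : Mat).det = 1) (hu : u ∈ G0 D) :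
    ∀ a : Idx → D.F₀, ∃ b : Idx → D.F₀, (u : Mat) *ᵥ rv D a = rv D b := by
  obtain ⟨k, hk, hku⟩ := (mem_G0 D u).1 hu
  obtain ⟨v, hv⟩ := exists_aniso D
  obtain ⟨T, rfl⟩ := exists_tri hv
  obtain ⟨b1, e1⟩ := hku T.f1
  obtain ⟨b2, e2⟩ := hku T.f2
  obtain ⟨b3, e3⟩ := hku T.f3
  -- the square
  have hk2 : k * k ∈ D.F₀ := by
    obtain ⟨b', e'⟩ := hku b1
    rw [← e1, mulVec_smul, ← Max.mulVec_mul_GL, hu2, Units.val_one, one_mulVec, smul_smul] at e'
    have h := congrArg (fun y => H y (rv D T.f1)) e'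
    simp only [H_smul_left, hB] at h
    rw [show k * k = ((BF D b' T.f1 : D.F₀) : F) / ((BF D T.f1 T.f1 : D.F₀) : F) by
      rw [eq_div_iff fun e => T.a1 (Subtype.ext e), h]]
    exact D.F₀.div_mem (BF D b' T.f1).2 (BF D T.f1 T.f1).2
  -- the cube
  let c0 : Matrix Idx Idx D.F₀ := Matrix.of fun r s =>
    ![fun b => BF D b T.f1 / BF D T.f1 T.f1, fun b => BF D b T.f2 / BF D T.f2 T.f2,
      fun b => BF D b T.f3 / BF D T.f3 T.f3] r (![b1, b2, b3] s)
  have hexp : ∀ b, rv D b = ((BF D b T.f1 / BF D T.f1 T.f1 : D.F₀) : F) • T.u1 +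
      ((BF D b T.f2 / BF D T.f2 T.f2 : D.F₀) : F) • T.u2 +
      ((BF D b T.f3 / BF D T.f3 T.f3 : D.F₀) : F) • T.u3 := fun b => by
    conv_lhs => rw [T.expand (rv D b)]
    simp only [Tri.u1, Tri.u2, Tri.u3, hB, Tri.d1, Tri.d2, Tri.d3]
    push_cast
    rfl
  have hd := T.det_eq (A := k • (u : Mat)) (c := c0.map D.F₀.subtype)
    (by rw [smul_mulVec, show T.u1 = rv D T.f1 from rfl, e1]; exact hexp b1)
    (by rw [smul_mulVec, show T.u2 = rv D T.f2 from rfl, e2]; exact hexp b2)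
    (by rw [smul_mulVec, show T.u3 = rv D T.f3 from rfl, e3]; exact hexp b3)
  rw [Matrix.det_smul, Fintype.card_fin, hdet, mul_one, ← RingHom.mapMatrix_apply, ← RingHom.map_det] at hd
  have hk3 : k ^ 3 ∈ D.F₀ := hd ▸ c0.det.2
  have hkF : k ∈ D.F₀ := by
    rw [show k = k ^ 3 / (k * k) by field_simp]
    exact D.F₀.div_mem hk3 hk2
  intro a
  obtain ⟨b, hb⟩ := hku a
  refine ⟨(⟨k, hkF⟩ : D.F₀)⁻¹ • b, ?_⟩
  rw [rv_smul, ← hb]
  push_cast
  rw [smul_smul, inv_mul_cancel₀ hk, one_smul]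

section rat

variable {M : Subgroup (GL (Fin 3) F)} (C : Ov D M) (hN : NoRoot D M) (hq : 7 ≤ q)
include C hN hq

/-- without transvections the overgroup is the subfield group -/
theorem Ov.all_rat {g : GLn} (hg : g ∈ M) : g ∈ G0 D := by
  classical
  obtain ⟨p, hpc⟩ := CharP.exists F
  haveI := hpc
  haveI : Fact p.Prime := ⟨CharP.char_is_prime F p⟩
  have h2 := two_ne D
  obtain ⟨ve, hve, hse⟩ := exists_split D
  obtain ⟨vf, hvf, hsf⟩ := exists_nonsplit D
  obtain ⟨Te, rfl⟩ := exists_tri hve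
  obtain ⟨Tf, rfl⟩ := exists_tri hvf
  obtain ⟨he, heM, -, he1, he2, he3⟩ := C.hinv Te
  obtain ⟨hf, hfM, -, hf1, hf2, hf3⟩ := C.hinv Tf
  have hsq : ∀ (T : Tri D) (h : GLn), (h : Mat) *ᵥ T.u1 = -T.u1 → (h : Mat) *ᵥ T.u2 = -T.u2 →
      (h : Mat) *ᵥ T.u3 = T.u3 → h * h = 1 := fun T h e1 e2 e3 => T.ext_gl
    (by rw [Max.mulVec_mul_GL, e1, mulVec_neg, e1, neg_neg, Units.val_one, one_mulVec])
    (by rw [Max.mulVec_mul_GL, e2, mulVec_neg, e2, neg_neg, Units.val_one, one_mulVec])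
    (by rw [Max.mulVec_mul_GL, e3, e3, Units.val_one, one_mulVec])
  set a := g * he * g⁻¹ with ha_def
  have haM : a ∈ M := mul_mem (mul_mem hg heM) (inv_mem hg)
  have haa : a * a = 1 := by
    rw [ha_def]
    simp only [mul_assoc, inv_mul_cancel_left]
    rw [← mul_assoc he, hsq Te he he1 he2 he3, one_mul, mul_inv_cancel]
  have hbb := hsq Tf hf hf1 hf2 hf3
  have haw : (a : Mat) *ᵥ ((g : Mat) *ᵥ Te.u3) = (g : Mat) *ᵥ Te.u3 := by
    rw [ha_def, Max.mulVec_mul_GL, Max.inv_mulVec_cancel, Max.mulVec_mul_GL, he3]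
  set n := orderOf (a * hf) with hn
  have hfin : 0 < n := orderOf_pos _
  have habM : ∀ m : ℕ, (a * hf) ^ m ∈ M := fun m => pow_mem (mul_mem haM hfM) m
  rcases Nat.even_or_odd' n with ⟨m, hm | hm⟩
  swap
  · exfalso
    set y := (a * hf) ^ m
    have hy : y * a * y⁻¹ = hf := by
      have e1 := (dihedral_facts haa hbb m).1
      have e2 : a * y⁻¹ = y * a := by
        calc a * y⁻¹ = y * (y⁻¹ * a) * y⁻¹ := by rw [mul_inv_cancel_left]
          _ = y * (a * y) * y⁻¹ := by rw [e1]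
          _ = y * a := by rw [mul_assoc, mul_inv_cancel_right]
      rw [mul_assoc, e2, ← mul_assoc, ← pow_add]
      have e3 : (a * hf) ^ (m + m) = (a * hf)⁻¹ := eq_inv_of_mul_eq_one_left (by
        rw [← pow_succ, show m + m + 1 = n by omega, hn, pow_orderOf_eq_one])
      rw [e3, _root_.mul_inv_rev, mul_assoc, inv_mul_cancel, mul_one]
      exact inv_eq_of_mul_eq_one_right hbb
    have hfix : (hf : Mat) *ᵥ (((y * g : GLn) : Mat) *ᵥ Te.u3) = ((y * g : GLn) : Mat) *ᵥ Te.u3 := by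
      rw [← hy, Max.mulVec_mul_GL (y * a), Max.mulVec_mul_GL y a, Max.mulVec_mul_GL y g, Max.inv_mulVec_cancel, haw]
    exact C.nonconj hN hq (p := p) hse hsf (mul_mem (habM m) hg) (Tf.fixed_line hf1 hf2 hf3 hfix)
  set z := (a * hf) ^ m with hzdef
  have hzM : z ∈ M := habM m
  have hz2 : z * z = 1 := by rw [hzdef, ← pow_add, show m + m = n by omega, hn, pow_orderOf_eq_one]
  have hzi : z⁻¹ = z := inv_eq_of_mul_eq_one_right hz2
  have hz1 : z ≠ 1 := fun e => by
    have := Nat.le_of_dvd (by omega) (hn ▸ orderOf_dvd_of_pow_eq_one (hzdef ▸ e))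
    omega
  obtain ⟨hza, hzb⟩ := dihedral_facts haa hbb m
  rw [← hzdef, hzi] at hza hzb
  -- the central involution fixes the non-split axis
  have hzf : (z : Mat) *ᵥ Tf.u3 = (H ((z : Mat) *ᵥ Tf.u3) Tf.u3 / Tf.d3) • Tf.u3 :=
    Tf.fixed_line hf1 hf2 hf3 (by rw [← Max.mulVec_mul_GL, hzb, Max.mulVec_mul_GL, hf3])
  set l := H ((z : Mat) *ᵥ Tf.u3) Tf.u3 / Tf.d3
  have hzrat := involution_rational hz2 (C.det hzM) (C.axis_rat hN hq (p := p) Tf.a3 hzM hzf)
  have hl2 : l * l = 1 := smul_left_injective F Tf.u3_ne (by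
    show (l * l) • Tf.u3 = (1 : F) • Tf.u3
    rw [one_smul]
    conv_rhs => rw [← one_mulVec Tf.u3, ← Units.val_one, ← hz2, Max.mulVec_mul_GL, hzf, mulVec_smul, hzf, smul_smul])
  -- an anisotropic rational fixed vector
  obtain ⟨v0, hv0, hzv0⟩ : ∃ v0 : Idx → D.F₀, BF D v0 v0 ≠ 0 ∧ (z : Mat) *ᵥ rv D v0 = rv D v0 := by
    rcases mul_self_eq_one_iff.1 hl2 with hl | hl
    · refine ⟨Tf.f3, Tf.a3, ?_⟩
      rw [hl, one_smul] at hzf
      exact hzf
    obtain ⟨c, d, hcd, hne⟩ : ∃ c d, (z : Mat) *ᵥ rv D c = rv D d ∧ c + d ≠ 0 := by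
      by_contra hcon
      push Not at hcon
      have key : ∀ c, (z : Mat) *ᵥ rv D c = -rv D c := fun c => by
        obtain ⟨d, hd⟩ := hzrat c
        rw [hd, ← rv_neg, eq_neg_of_add_eq_zero_right (hcon c d hd)]
      have hdet := Tf.det_eq (A := (z : Mat)) (c := -1)
        (by simp [Tri.u1, key]) (by simp [Tri.u2, key]) (by simp [Tri.u3, key])
      rw [C.det hzM, Matrix.det_neg, Fintype.card_fin, Matrix.det_one, mul_one] at hdet
      exact h2 (by linear_combination hdet)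
    have hfix : (z : Mat) *ᵥ rv D (c + d) = rv D (c + d) := by
      rw [rv_add, mulVec_add, hcd, ← hcd, ← Max.mulVec_mul_GL, hz2, Units.val_one, one_mulVec, hcd, add_comm]
    refine ⟨c + d, fun h0 => hsf (Tf.split_of_sing hne h0 (Subtype.ext ?_)), hfix⟩
    have h := C.map_H hzM (rv D (c + d)) Tf.u3
    rw [hfix, hzf, hl, H_smul_right, show (-1 : F) ^ q = -1 from D.hodd.neg_one_pow] at h
    rw [← hB]
    show H (rv D (c + d)) Tf.u3 = _
    exact (mul_eq_zero.1 (show (2 : F) * H (rv D (c + d)) Tf.u3 = 0 by linear_combination -h)).resolve_left h2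
  obtain ⟨T0, rfl⟩ := exists_tri hv0
  -- the central involution is the reflection with that axis
  obtain ⟨hz01, hz02⟩ : (z : Mat) *ᵥ T0.u1 = -T0.u1 ∧ (z : Mat) *ᵥ T0.u2 = -T0.u2 := by
    have hp1 := C.axis_preserved' hzM (l := 1) (by rw [one_smul]; exact hzv0) T0.H13
    have hp2 := C.axis_preserved' hzM (l := 1) (by rw [one_smul]; exact hzv0) T0.H23
    have e1 := T0.expand ((z : Mat) *ᵥ T0.u1)
    have e2 := T0.expand ((z : Mat) *ᵥ T0.u2)
    rw [hp1, zero_div, zero_smul, add_zero] at e1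
    rw [hp2, zero_div, zero_smul, add_zero] at e2
    set A := H ((z : Mat) *ᵥ T0.u1) T0.u1 / T0.d1
    set Cc := H ((z : Mat) *ᵥ T0.u1) T0.u2 / T0.d2
    set B' := H ((z : Mat) *ᵥ T0.u2) T0.u1 / T0.d1
    set E := H ((z : Mat) *ᵥ T0.u2) T0.u2 / T0.d2
    have hdet := T0.det_eq (A := (z : Mat)) (c := !![A, B', 0; Cc, E, 0; 0, 0, 1])
      (by simp [e1]) (by simp [e2]) (by simpa [Tri.u3] using hzv0)
    rw [C.det hzM, Matrix.det_fin_three] at hdet
    simp at hdet
    have q1 : T0.u1 = A • (A • T0.u1 + Cc • T0.u2) + Cc • (B' • T0.u1 + E • T0.u2) := by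
      conv_lhs => rw [← one_mulVec T0.u1, ← Units.val_one, ← hz2, Max.mulVec_mul_GL, e1, mulVec_add, mulVec_smul,
        mulVec_smul, e1, e2]
    have q2 : T0.u2 = B' • (A • T0.u1 + Cc • T0.u2) + E • (B' • T0.u1 + E • T0.u2) := by
      conv_lhs => rw [← one_mulVec T0.u2, ← Units.val_one, ← hz2, Max.mulVec_mul_GL, e2, mulVec_add, mulVec_smul,
        mulVec_smul, e1, e2]
    have f1 := congrArg (fun y => H y T0.u1) q1
    have f2 := congrArg (fun y => H y T0.u2) q1
    have f3 := congrArg (fun y => H y T0.u1) q2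
    have f4 := congrArg (fun y => H y T0.u2) q2
    simp only [H_add_left, H_smul_left, T0.H11, T0.H12, T0.H21, T0.H22, mul_zero, add_zero, zero_add] at f1 f2 f3 f4
    have g1 : A * A + Cc * B' = 1 := mul_right_cancel₀ T0.d1_ne (by linear_combination -f1)
    have g2 : Cc * (A + E) = 0 :=
      (mul_eq_zero.1 (show Cc * (A + E) * T0.d2 = 0 by linear_combination -f2)).resolve_right T0.d2_ne
    have g3 : B' * (A + E) = 0 :=
      (mul_eq_zero.1 (show B' * (A + E) * T0.d1 = 0 by linear_combination -f3)).resolve_right T0.d1_ne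
    have g4 : E * E + Cc * B' = 1 := mul_right_cancel₀ T0.d2_ne (by linear_combination -f4)
    have hne : A + E ≠ 0 := fun h => h2 (by linear_combination A * h - g1 + hdet)
    have hB0 := (mul_eq_zero.1 g3).resolve_right hne
    have hC0 := (mul_eq_zero.1 g2).resolve_right hne
    rw [hB0, mul_zero, add_zero] at g1 g4
    rw [hB0, zero_mul, sub_zero] at hdet
    have hAE : E = A := by linear_combination -A * hdet - E * g1
    rw [hC0, zero_smul, add_zero] at e1
    rw [hB0, zero_smul, zero_add, hAE] at e2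
    rcases mul_self_eq_one_iff.1 g1 with h | h
    · refine absurd (T0.ext_gl (g' := 1) ?_ ?_ ?_) hz1 <;> rw [Units.val_one, one_mulVec]
      · rw [e1, h, one_smul]
      · rw [e2, h, one_smul]
      · exact hzv0
    · exact ⟨by rw [e1, h, neg_one_smul], by rw [e2, h, neg_one_smul]⟩
  have haf : (a : Mat) *ᵥ T0.u3 = (H ((a : Mat) *ᵥ T0.u3) T0.u3 / T0.d3) • T0.u3 :=
    T0.fixed_line hz01 hz02 hzv0 (by rw [← Max.mulVec_mul_GL, ← hza, Max.mulVec_mul_GL]; exact congrArg _ hzv0)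
  have hrat := involution_rational haa (C.det haM) (C.axis_rat hN hq (p := p) T0.a3 haM haf)
  -- the fixed line of the conjugate
  have hline : ∀ v : Vec, (a : Mat) *ᵥ v = v → ∃ c : F, v = c • ((g : Mat) *ᵥ Te.u3) := by
    intro v hv
    have h := Te.fixed_line he1 he2 he3 (v := ((g⁻¹ : GLn) : Mat) *ᵥ v) (by
      conv_rhs => rw [← hv, ha_def, Max.mulVec_mul_GL, Max.mulVec_mul_GL, Max.inv_mulVec_cancel])
    exact ⟨_, by rw [← Max.mulVec_inv_cancel g v, h, mulVec_smul]⟩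
  obtain ⟨w, hw0, hwfix⟩ : ∃ w : Idx → D.F₀, w ≠ 0 ∧ (a : Mat) *ᵥ rv D w = rv D w := by
    by_contra hcon
    push Not at hcon
    have key : ∀ c, (a : Mat) *ᵥ rv D c = -rv D c := fun c => by
      obtain ⟨d, hd⟩ := hrat c
      have hfix : (a : Mat) *ᵥ rv D (c + d) = rv D (c + d) := by
        rw [rv_add, mulVec_add, hd, ← hd, ← Max.mulVec_mul_GL, haa, Units.val_one, one_mulVec, hd, add_comm]
      have h0 : c + d = 0 := by
        by_contra h
        exact hcon _ h hfix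
      rw [hd, ← rv_neg, eq_neg_of_add_eq_zero_right h0]
    have hdet := Tf.det_eq (A := (a : Mat)) (c := -1)
      (by simp [Tri.u1, key]) (by simp [Tri.u2, key]) (by simp [Tri.u3, key])
    rw [C.det haM, Matrix.det_neg, Fintype.card_fin, Matrix.det_one, mul_one] at hdet
    exact h2 (by linear_combination hdet)
  obtain ⟨c, hc⟩ := hline _ hwfix
  have hc0 : c ≠ 0 := fun h => hw0 (rv_eq_zero D (by rw [hc, h, zero_smul]))
  have hww : BF D w w ≠ 0 := fun h => by
    have e := hB D w w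
    rw [h, hc, H_smul_left, H_smul_right, C.map_H hg, Te.H33] at e
    exact mul_ne_zero hc0 (mul_ne_zero (pow_ne_zero _ hc0) Te.d3_ne) e
  obtain ⟨Tw, hTw⟩ := exists_tri hww
  have hge : (g : Mat) *ᵥ Te.u3 = c⁻¹ • rv D w := by rw [hc, smul_smul, inv_mul_cancel₀ hc0, one_smul]
  have hsw : Split D w := by
    by_contra hns
    exact C.nonconj hN hq (p := p) hse (hTw ▸ hns) hg (c := c⁻¹) (by rw [hge, Tri.u3, hTw])
  obtain ⟨y1, hy1⟩ := hse
  obtain ⟨y2, hy2⟩ := hsw
  have hd := disc_ne D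
  have hy20 : y2 ≠ 0 := fun h => mul_ne_zero hd hww (by rw [hy2, h, mul_zero])
  have hy10 : y1 ≠ 0 := fun h => mul_ne_zero hd Te.a3 (by rw [hy1, h, mul_zero])
  set t := y1 / y2 with ht
  have hval : BF D Te.f3 Te.f3 = BF D (t • w) (t • w) := by
    refine mul_left_cancel₀ hd ?_
    simp only [map_smul, LinearMap.smul_apply, smul_eq_mul, ht]
    rw [hy1]
    field_simp
    linear_combination -hy2
  obtain ⟨g0, hg0M, hg0, ε, hε, hgu⟩ := C.move hval Te.a3
  have htF : (t : F) ≠ 0 := fun h => div_ne_zero hy10 hy20 (Subtype.ext h)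
  have h0 : g0⁻¹ * g ∈ G0 D := by
    refine C.axis_rat hN hq (p := p) Te.a3 (mul_mem (inv_mem hg0M) hg) (l := c⁻¹ / (ε * t)) ?_
    show ((g0⁻¹ * g : GLn) : Mat) *ᵥ Te.u3 = _
    rw [Max.mulVec_mul_GL, hge]
    refine mulVec_inv_eq ?_
    rw [mulVec_smul, hgu, rv_smul, smul_smul, smul_smul]
    congr 1
    field_simp
  have := mul_mem hg0 h0
  rwa [mul_inv_cancel_left] at this

end rat

/-- conjunct (6) of S5777 -/
theorem maximal' (hF : Fintype.card F = q ^ 2) :
    Odd q → 7 ≤ q → ∀ (F₀ : Subfield F) (P : Matrix.GeneralLinearGroup (Fin 3) F), Fintype.card F = Nat.card F₀ ^ 2 → Cfsg.Geo.IsFormRationalStructure (Cfsg.hermForm 3 F q) F₀ 1 P → Cfsg.Geo.IsMaximalIn (Cfsg.GU 3 F q ⊓ Cfsg.Geo.specialLinear (Fin 3) F) (Cfsg.Geo.subfieldSubgroup F₀ P ⊓ (Cfsg.GU 3 F q ⊓ Cfsg.Geo.specialLinear (Fin 3) F)) := by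
  intro hodd hq F₀ P hcard hP
  let D : Data F q 3 := ⟨F₀, P, hF, hodd, hcard, hP⟩
  refine Max.isMaximalIn_of inf_le_right (fun hle => ?_) fun M hM hMK g hgM hg => ?_
  · obtain ⟨v, hv, hs⟩ := exists_split D
    obtain ⟨T, rfl⟩ := exists_tri hv
    obtain ⟨i, hi⟩ := exists_splitAt hs
    obtain ⟨a, ha⟩ := hi.rat
    have haa : BF D a a = 0 := Subtype.ext (by rw [← hB, ha, hi.Hnn]; rfl)
    have ha0 : a ≠ 0 := fun e => hi.n_ne (by rw [← ha, e, rv_zero])
    obtain ⟨e, -, hae⟩ := dual D a ⊥ (by simpa using ha0)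
    obtain ⟨s, hs', hsx⟩ := Unitary.exists_tv hF (hH0 D haa) (th_skew D)
    obtain ⟨k, hk, hkF⟩ := (mem_G0 D s).1 (hle hs').1
    obtain ⟨b, hb⟩ := hkF a
    rw [hsx, hH0 D haa, mul_zero, zero_smul, add_zero] at hb
    have hae' : H (rv D a) (rv D e) = 1 := by rw [hB, hae]; rfl
    have hk' : k ∈ D.F₀ := by
      have := congrArg (fun v => H v (rv D e)) hb
      simp only [H_smul_left, hae', mul_one] at this
      rw [this]; exact hrat D b e
    obtain ⟨b', hb'⟩ := hkF e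
    rw [hsx, show H (rv D e) (rv D a) = 1 by rw [hB, SU4.Orth.swap, hae]; rfl, mul_one] at hb'
    have h3 := congrArg (fun v => H v (rv D e)) hb'
    simp only [H_smul_left, H_add_left, hae'] at h3
    refine th_not_mem D ?_
    rw [show th D = (H (rv D b') (rv D e) - k * H (rv D e) (rv D e)) / k by
      rw [eq_div_iff hk, ← h3]; ring]
    exact D.F₀.div_mem (sub_mem (hrat D _ _) (mul_mem hk' (hrat D _ _))) hk'
  have C : Ov D M := ⟨hMK, fun s hs h => hM ⟨h, hs⟩⟩
  by_cases hN : NoRoot D M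
  · exact absurd ⟨C.all_rat hN hq hgM, hMK hgM⟩ hg
  · simp only [NoRoot] at hN
    push Not at hN
    obtain ⟨a₀, c₀, ha₀, ha₀₀, hc₀s, hT₀, hc₀0⟩ := hN
    exact C.top_of_root (by omega) ha₀ ha₀₀ hc₀s hc₀0 hT₀

/-- conjunct (6) of S5777, with the parameter explicit -/
theorem maximal (q : ℕ) (hF : Fintype.card F = q ^ 2) :
    Odd q → 7 ≤ q → ∀ (F₀ : Subfield F) (P : Matrix.GeneralLinearGroup (Fin 3) F), Fintype.card F = Nat.card F₀ ^ 2 → Cfsg.Geo.IsFormRationalStructure (Cfsg.hermForm 3 F q) F₀ 1 P → Cfsg.Geo.IsMaximalIn (Cfsg.GU 3 F q ⊓ Cfsg.Geo.specialLinear (Fin 3) F) (Cfsg.Geo.subfieldSubgroup F₀ P ⊓ (Cfsg.GU 3 F q ⊓ Cfsg.Geo.specialLinear (Fin 3) F)) :=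
  maximal' hF

end Cfsg.Agent.Forms.Max.SU3.Orth
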