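import Mathlib
import Cfsg.Prelude.Def_GeometricClasses
import Cfsg.Agent.Lib.Forms.Max.SubfieldMem
import Cfsg.Agent.Lib.Forms.Max.SU3.Subspace
import Cfsg.Agent.Lib.Forms.Max.SU3.Subfield.Two

/-!
# Subfield groups of odd prime index are maximal in the unitary group of dimension three

An overgroup has an irrational centre. Together with a rational one it gives a full root group on a rational
point, hence on every point of a rational hyperbolic line, and a rational transvection moves that line.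
-/

set_option autoImplicit false
set_option linter.unusedSectionVars false

namespace Cfsg.Agent.Forms.Max.SU3.Subfield

open Matrix Cfsg.Agent.Classical.Unitary

variable {F : Type*} [Field F] [Fintype F] {q n : ℕ}

local notation "Idx" => (Fin n)
local notation "Vec" => (Fin n → F)
local notation "GLn" => GL (Fin n) F
local notation "Mat" => Matrix (Fin n) (Fin n) F
local notation "H" => Cfsg.hermForm n F q
local notation "SUn" => (Cfsg.GU n F q ⊓ Cfsg.Geo.specialLinear (Fin n) F)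

variable {D : Data F q n} {M : Subgroup (GL (Fin n) F)}

theorem Hyp.alpha_ne {e f w : Idx → D.F₀} (B : Hyp D e f w) {α : F}
    (h : α + α ^ q + 1 * 1 ^ q * H (rv D w) (rv D w) = 0) : α ≠ 0 := fun h0 => B.ww (by
  rw [h0, zero_pow (q_ne_zero D.hF), zero_add, zero_add, one_pow, one_mul, one_mul] at h
  exact h)

/-- a non-zero vector sees a rational isotropic one -/
theorem exists_iso_off' (D : Data F q n) {z : Vec} (hz : z ≠ 0) :
    ∃ a, H (rv D a) (rv D a) = 0 ∧ H z (rv D a) ≠ 0 := by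
  obtain ⟨e, f, w, B⟩ := exists_hyp D
  by_contra hc
  push Not at hc
  obtain ⟨α, hα, hαe⟩ := B.exists_coeff (one_mem D.F₀)
  have h1 := hc _ (B.comb_iso ⟨α, hα⟩ 1 hαe)
  simp only [rv_add, rv_smul, H_add_right D.hF, H_smul_right, hc e B.ee, hc f B.ff, OneMemClass.coe_one,
    one_pow, one_mul, mul_zero, zero_add] at h1
  exact hz (by rw [B.dec z, hc e B.ee, hc f B.ff, h1, zero_div, zero_smul, zero_smul, zero_smul, zero_add, zero_add])

theorem ratRoots_of_low (D : Data F q n) (hlow : ∀ g ∈ SUn, (∃ k : F, k ≠ 0 ∧ ∀ a : Idx → D.F₀,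
    ∃ b : Idx → D.F₀, k • ((g : Mat) *ᵥ rv D a) = rv D b) → g ∈ M) : RatRoots D M :=
  fun a c haa hc hcs s hs => hlow s (by
      obtain ⟨s', hs', hsx⟩ := Unitary.exists_tv D.hF haa hcs
      exact (Max.gl_ext fun x => by rw [hs, hsx] : s = s') ▸ hs') ⟨1, one_ne_zero, fun x =>
    ⟨x + ((⟨c, hc⟩ : D.F₀) * form0 D a x) • a, by
      rw [one_smul, hs, rv_add, rv_smul, MulMemClass.coe_mul, form0_coe]⟩⟩

/-- a member outside the subfield group moves some rational centre to an irrational point -/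
theorem exists_irrational_centre (D : Data F q n) (hMK : M ≤ SUn) (hR : RatRoots D M) {g : GLn} (hgM : g ∈ M)
    (hg : ¬ ∃ k : F, k ≠ 0 ∧ ∀ a : Idx → D.F₀, ∃ b : Idx → D.F₀, k • ((g : Mat) *ᵥ rv D a) = rv D b) :
    ∃ u, H u u = 0 ∧ (∀ c ∈ D.F₀, c + c ^ q = 0 → InM q M u c) ∧ ∀ (k : F) x, u ≠ k • rv D x := by
  have hF := D.hF
  obtain ⟨e, f, w, B⟩ := exists_hyp D
  obtain ⟨α, hα, hαe⟩ := B.exists_coeff (one_mem D.F₀)
  have hα0 := B.alpha_ne hαe
  set x₁ : Idx → D.F₀ := (⟨α, hα⟩ : D.F₀) • e + f + (1 : D.F₀) • w with hx₁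
  have hxx := B.comb_iso ⟨α, hα⟩ 1 hαe
  by_contra hcon
  push Not at hcon
  have hline : ∀ a, H (rv D a) (rv D a) = 0 → ∃ (l : F) (y : Idx → D.F₀),
      (g : Mat) *ᵥ rv D a = l • rv D y := fun a haa =>
    hcon _ (by rw [Unitary.SUn_H (hMK hgM)]; exact haa) fun c hc hcs =>
      inM_map hF hMK hgM haa hcs (hR a c haa hc hcs)
  obtain ⟨l₁, y₁, h1⟩ := hline e B.ee
  obtain ⟨l₂, y₂, h2⟩ := hline f B.ff
  obtain ⟨l₃, y₃, h3⟩ := hline x₁ hxx
  have hprod : ∀ {a b y y' : Idx → D.F₀} {l l' : F}, (g : Mat) *ᵥ rv D a = l • rv D y →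
      (g : Mat) *ᵥ rv D b = l' • rv D y' → H (rv D a) (rv D b) ≠ 0 →
      l * l' ^ q ∈ D.F₀ ∧ l * l' ^ q ≠ 0 := by
    intro a b y y' l l' ha hb hab
    have e := Unitary.SUn_H (hMK hgM) (rv D a) (rv D b)
    rw [ha, hb, H_smul_left, H_smul_right, ← mul_assoc] at e
    have hy0 : H (rv D y) (rv D y') ≠ 0 := fun e0 => hab (by rw [← e, e0, mul_zero])
    refine ⟨?_, fun h0 => hab (by rw [← e, h0, zero_mul])⟩
    rw [(eq_div_iff hy0).2 e]
    exact D.F₀.div_mem (H_rat D a b) (H_rat D _ _)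
  have hxe : H (rv D x₁) (rv D e) = 1 := by simp [hx₁, rv_add, rv_smul, H_add_left, H_smul_left, B.ee, B.fe, B.we]
  have hxf : H (rv D x₁) (rv D f) = α := by simp [hx₁, rv_add, rv_smul, H_add_left, H_smul_left, B.ff, B.ef, B.wf]
  obtain ⟨p31, -⟩ := hprod h3 h2 (by rw [hxf]; exact hα0)
  obtain ⟨p12, n12⟩ := hprod h1 h2 (by rw [B.ef]; exact one_ne_zero)
  obtain ⟨p23, -⟩ := hprod h2 h3 (fun h => hα0 (by rw [← hxf]; exact (H_eq_zero_comm hF).1 h))
  obtain ⟨p13, n13⟩ := hprod h1 h3 (fun h => one_ne_zero (hxe.symm.trans ((H_eq_zero_comm hF).1 h)))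
  have hl1 : l₁ ≠ 0 := (mul_ne_zero_iff.1 n12).1
  have hr2 : l₁⁻¹ * l₂ ∈ D.F₀ := by
    rw [show l₁⁻¹ * l₂ = l₂ * l₃ ^ q / (l₁ * l₃ ^ q) by
      rw [mul_div_mul_right _ _ (mul_ne_zero_iff.1 n13).2, div_eq_inv_mul]]
    exact D.F₀.div_mem p23 p13
  have hr3 : l₁⁻¹ * l₃ ∈ D.F₀ := by
    rw [show l₁⁻¹ * l₃ = l₃ * l₂ ^ q / (l₁ * l₂ ^ q) by
      rw [mul_div_mul_right _ _ (mul_ne_zero_iff.1 n12).2, div_eq_inv_mul]]
    exact D.F₀.div_mem p31 p12
  refine hg ⟨l₁⁻¹, inv_ne_zero hl1, ?_⟩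
  let T : Submodule D.F₀ (Idx → D.F₀) :=
    { carrier := {x | ∃ b : Idx → D.F₀, l₁⁻¹ • ((g : Mat) *ᵥ rv D x) = rv D b}
      zero_mem' := ⟨0, by rw [rv_zero, mulVec_zero, smul_zero]⟩
      add_mem' := fun {x x'} ⟨b, hb⟩ ⟨b', hb'⟩ => ⟨b + b', by rw [rv_add, mulVec_add, smul_add, hb, hb', rv_add]⟩
      smul_mem' := fun t x ⟨b, hb⟩ => ⟨t • b, by rw [rv_smul, mulVec_smul, smul_comm, hb, rv_smul]⟩ }
  have he : e ∈ T := ⟨y₁, by rw [h1, smul_smul, inv_mul_cancel₀ hl1, one_smul]⟩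
  have hf : f ∈ T := ⟨(⟨_, hr2⟩ : D.F₀) • y₂, by rw [h2, smul_smul, rv_smul]⟩
  have hx : x₁ ∈ T := ⟨(⟨_, hr3⟩ : D.F₀) • y₃, by rw [h3, smul_smul, rv_smul]⟩
  have hw : w ∈ T := by
    have := T.sub_mem hx (T.add_mem (T.smul_mem (⟨α, hα⟩ : D.F₀) he) hf)
    rwa [hx₁, one_smul, add_sub_cancel_left] at this
  intro a
  have ea : a = form0 D f a • e + form0 D e a • f +
      (form0 D w a * (⟨(H (rv D w) (rv D w))⁻¹, inv_mem (H_rat D w w)⟩ : D.F₀)) • w := by
    refine sub_eq_zero.1 (rv_eq_zero D ?_)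
    rw [rv_sub, sub_eq_zero]
    conv_lhs => rw [B.dec (rv D a)]
    simp only [rv_add, rv_smul, MulMemClass.coe_mul, form0_coe, div_eq_mul_inv]
  rw [ea]
  exact T.add_mem (T.add_mem (T.smul_mem _ he) (T.smul_mem _ hf)) (T.smul_mem _ hw)

/-- with more than two rational fixed elements a rational point becomes a centre -/
theorem centre_of_norm (D : Data F q n) (hMK : M ≤ SUn) (hR : RatRoots D M) {u : Vec} (huu : H u u = 0)
    (hu : ∀ c ∈ D.F₀, c + c ^ q = 0 → InM q M u c) {v : Idx → D.F₀} (hv : H (rv D v) (rv D v) = 0)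
    (hN : H u (rv D v) * H u (rv D v) ^ q ∉ D.F₀) {k₀ : F} (hk₀ : k₀ ∈ D.F₀) (hk₀q : k₀ ^ q = k₀)
    (hk₀0 : k₀ ≠ 0) (hk₀1 : k₀ ≠ 1) : rv D v ∈ Unitary.centres q M := by
  classical
  have hF := D.hF
  obtain ⟨ζ, hζ, hζ0, hζs⟩ := exists_skew D
  have hh : H u (rv D v) ≠ 0 := fun e => hN (by rw [e, zero_mul]; exact zero_mem _)
  have hsk : ∀ a : F, a ^ q = a → a * ζ + (a * ζ) ^ q = 0 := fun a ha => by
    rw [mul_pow, ha, ← mul_add, hζs, mul_zero]
  have hin : ∀ a ∈ D.F₀, a ^ q = a → InM q M (rv D v) (a * ζ) := fun a ha haq =>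
    hR v _ hv (mul_mem ha hζ) (hsk a haq)
  refine plane_full hF D.hn hMK hv huu hh hζ0 hζs (hu ζ hζ hζs) one_ne_zero (one_pow q)
    (hin 1 (one_mem _) (one_pow q)) (fun S hS hSb => ?_) ?_
  · rw [one_mul] at hSb
    refine field_gen hF D S (fun x hx hxq => ?_) (b := ζ * ζ * (H u (rv D v) * H u (rv D v) ^ q)) ?_ hSb ?_
    · simpa using hS x hxq (hin x hx hxq)
    · rw [mul_pow, mul_pow, mul_pow, eq_neg_of_add_eq_zero_right hζs, pow_qq hF]; ring
    · intro hb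
      have := D.F₀.div_mem hb (mul_mem hζ hζ)
      rw [mul_div_cancel_left₀ _ (mul_ne_zero hζ0 hζ0)] at this
      exact hN this
  by_cases hbig : ∃ a ∈ D.F₀, a ^ q = a ∧ ∀ k : ℤ, a ≠ k * (1 : F)
  · obtain ⟨a, ha, haq, hak⟩ := hbig
    exact Or.inl ⟨a, haq, hin a ha haq, hak⟩
  push Not at hbig
  refine Or.inr fun p hp => ?_
  haveI : Fact p.Prime := ⟨CharP.char_is_prime F p⟩
  refine ⟨fun h2 => ?_, fun h3 => ?_⟩
  · obtain ⟨k, hk⟩ := hbig k₀ hk₀ hk₀q
    subst h2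
    rcases Int.even_or_odd k with ⟨m, rfl⟩ | ⟨m, rfl⟩
    · exact hk₀0 (by rw [hk]; push_cast; linear_combination (m : F) * CharTwo.two_eq_zero (R := F))
    · exact hk₀1 (by rw [hk]; push_cast; linear_combination (m : F) * CharTwo.two_eq_zero (R := F))
  subst h3
  haveI : Fintype D.F₀ := Fintype.ofFinite D.F₀
  obtain ⟨θ, hθ, hne⟩ := exists_theta D
  -- the subfield has at most nine elements
  have h9 : Nat.card D.F₀ ≤ 9 := by
    have hint : ∀ k : ℤ, ∃ i : Fin 3, (k : F) = ((i : ℕ) : F) := fun k => by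
      refine ⟨⟨(k % 3).toNat, by omega⟩, ?_⟩
      have e : k = 3 * (k / 3) + ((k % 3).toNat : ℤ) := by omega
      conv_lhs => rw [e]
      have h30 : (3 : F) = 0 := by exact_mod_cast CharP.cast_eq_zero F 3
      push_cast
      rw [h30, zero_mul, zero_add]
    have hx : ∀ x : D.F₀, ∃ ij : Fin 3 × Fin 3, (x : F) = ((ij.1 : ℕ) : F) + ((ij.2 : ℕ) : F) * θ := fun x => by
      have hd : θ - θ ^ q ≠ 0 := sub_ne_zero.2 hne.symm
      set t := ((x : F) - (x : F) ^ q) / (θ - θ ^ q) with ht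
      have htq : t ^ q = t := by
        rw [ht, div_pow, ← HermStd.qHom_apply hF, ← HermStd.qHom_apply hF (θ - θ ^ q), map_sub, map_sub,
          HermStd.qHom_apply, HermStd.qHom_apply, HermStd.qHom_apply, HermStd.qHom_apply, pow_qq hF, pow_qq hF,
          ← neg_sub θ, ← neg_sub (x : F), neg_div_neg_eq]
      have htm : t ∈ D.F₀ := D.F₀.div_mem (sub_mem x.2 (pow_mem x.2 q)) (sub_mem hθ (pow_mem hθ q))
      have hsq : ((x : F) - t * θ) ^ q = (x : F) - t * θ := by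
        rw [← HermStd.qHom_apply hF, map_sub, map_mul, HermStd.qHom_apply, HermStd.qHom_apply,
          HermStd.qHom_apply, htq]
        have hcc : t * (θ - θ ^ q) = (x : F) - (x : F) ^ q := by rw [ht, div_mul_cancel₀ _ hd]
        linear_combination hcc
      obtain ⟨a, ha⟩ := hbig _ (sub_mem x.2 (mul_mem htm hθ)) hsq
      obtain ⟨b, hb⟩ := hbig t htm htq
      rw [mul_one] at ha hb
      obtain ⟨i, hi⟩ := hint a
      obtain ⟨j, hj⟩ := hint b
      exact ⟨(i, j), by rw [← hi, ← hj, ← ha, ← hb]; ring⟩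
    choose φ hφ using hx
    have hinj : Function.Injective φ := fun x y e => Subtype.ext (by rw [hφ x, hφ y, e])
    simpa using Nat.card_le_card_of_injective φ hinj
  obtain ⟨e, -, hcard⟩ := FiniteField.card F 3
  haveI : CharP D.F₀ 3 := (D.F₀.subtype).charP D.F₀.subtype.injective 3
  obtain ⟨d, -, hd⟩ := FiniteField.card D.F₀ 3
  have hd' : Nat.card D.F₀ = 3 ^ (d : ℕ) := by rw [Nat.card_eq_fintype_card, hd]
  have hd2 : (d : ℕ) ≤ 2 := by
    by_contra hlt
    have : 3 ^ 3 ≤ 3 ^ (d : ℕ) := Nat.pow_le_pow_right (by norm_num) (by omega)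
    omega
  obtain ⟨f, -, hf⟩ := (Nat.dvd_prime_pow Nat.prime_three).1
    (show q ∣ 3 ^ (e : ℕ) by rw [← hcard, hF]; exact dvd_pow_self q two_ne_zero)
  have hq : q ^ 2 = Nat.card D.F₀ ^ D.r := hF ▸ D.hcard
  rw [hd', ← pow_mul] at hq
  have hq' : (3 ^ f) ^ 2 = 3 ^ ((d : ℕ) * D.r) := (congrArg (· ^ 2) hf.symm).trans hq
  rw [← pow_mul] at hq'
  have h2 : f * 2 = (d : ℕ) * D.r := Nat.pow_right_injective (show 2 ≤ 3 by norm_num) hq'
  obtain ⟨j, hj⟩ := D.hro
  have hd2' : (d : ℕ) = 2 := by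
    rcases (show (d : ℕ) = 1 ∨ (d : ℕ) = 2 by have := d.pos; omega) with h | h
    · rw [h, one_mul] at h2; omega
    · exact h
  have hfr : f = 2 * j + 1 := by rw [hd2'] at h2; omega
  have h5 : ∀ m : ℕ, 3 ^ (2 * m + 1) % 5 = 3 ∨ 3 ^ (2 * m + 1) % 5 = 2 := fun m => by
    induction m with
    | zero => simp
    | succ m ih =>
      rw [show 2 * (m + 1) + 1 = 2 * m + 1 + 2 by ring, pow_add, Nat.mul_mod]
      rcases ih with h | h <;> rw [h] <;> simp
  have hq5 : q % 5 = 3 ∨ q % 5 = 2 := by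
    rw [hfr] at hf
    rw [hf]
    exact h5 j
  rw [Nat.Prime.dvd_mul (by norm_num), Nat.Prime.dvd_mul (by norm_num)]
  omega

/-- with two rational fixed elements a rational point becomes a centre -/
theorem centre_of_two (D : Data F q n) (hMK : M ≤ SUn) (hlow : ∀ g ∈ SUn, (∃ k : F, k ≠ 0 ∧ ∀ a : Idx → D.F₀,
    ∃ b : Idx → D.F₀, k • ((g : Mat) *ᵥ rv D a) = rv D b) → g ∈ M) (hR : RatRoots D M) {u : Vec}
    (huu : H u u = 0) (hu : ∀ c ∈ D.F₀, c + c ^ q = 0 → InM q M u c) {v : Idx → D.F₀}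
    (hv : H (rv D v) (rv D v) = 0) (hN : H u (rv D v) * H u (rv D v) ^ q ∉ D.F₀)
    (small : ∀ x ∈ D.F₀, x ^ q = x → x = 0 ∨ x = 1) :
    ∃ a, H (rv D a) (rv D a) = 0 ∧ rv D a ≠ 0 ∧ rv D a ∈ Unitary.centres q M := by
  have hF := D.hF
  have h20 : (2 : F) = 0 := by
    rcases small 2 (ofNat_mem D.F₀ 2) (by rw [← HermStd.qHom_apply hF, map_ofNat]) with h | h
    · exact h
    · exact absurd (by linear_combination h : (1 : F) = 0) one_ne_zero
  have h1s : (1 : F) + 1 ^ q = 0 := by rw [one_pow]; linear_combination h20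
  by_cases hone : ∀ (p : Vec) (c c' : F), p ≠ 0 → H p p = 0 → c + c ^ q = 0 → c' + c' ^ q = 0 →
      c ≠ 0 → c' ≠ 0 → InM q M p c → InM q M p c' → c = c'
  · exact (Two.false_of_norm ⟨hMK, hlow, small, hR, hone⟩ huu (hu 1 (one_mem _) h1s) hv hN).elim
  push Not at hone
  obtain ⟨p, c, c', hp, hpp, hc, hc', hc0, hc'0, hpc, hpc', hne⟩ := hone
  obtain ⟨a, haa, hpa⟩ := exists_iso_off' D hp
  have hfix : ∀ x : F, x + x ^ q = 0 → x ^ q = x := fun x hx => by linear_combination hx - x * h20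
  have hcc : (c' / c) ^ q = c' / c := by rw [div_pow, hfix c hc, hfix c' hc']
  have hcc' : c' / c ∉ D.F₀ := fun h => by
    rcases small _ h hcc with h1 | h1
    · exact div_ne_zero hc'0 hc0 h1
    · exact hne ((div_eq_one_iff_eq hc0).1 h1).symm
  have hcp : p ∈ Unitary.centres q M := by
    refine plane_full hF D.hn hMK hpp haa (fun h => hpa ((H_eq_zero_comm hF).1 h)) one_ne_zero h1s
      (hR a 1 haa (one_mem _) h1s) hc0 (hfix c hc) (by rw [mul_one]; exact hpc)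
      (fun S hS _ => field_gen hF D S (fun x hx hxq => ?_) hcc (hS c' (hfix c' hc') (by rwa [mul_one])) hcc')
      (Or.inl ⟨c', hfix c' hc', by rwa [mul_one], fun k hk => ?_⟩)
    · rcases small x hx hxq with rfl | rfl
      exacts [zero_mem S, one_mem S]
    · rcases small (k : F) (intCast_mem D.F₀ k) (by rw [← HermStd.qHom_apply hF, map_intCast]) with h | h
      · exact hc'0 (by rw [hk, h, zero_mul])
      · exact hne (by rw [hk, h, one_mul])
  exact ⟨a, haa, fun h => hpa (by rw [h, H_zero_right hF]),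
    centre_step hF hMK hcp haa one_ne_zero h1s (hR a 1 haa (one_mem _) h1s) hpa⟩

/-- a rational centre gives everything -/
theorem le_of_centre (D : Data F q n) (hq : 3 ≤ q) (hMK : M ≤ SUn) (hR : RatRoots D M) {a : Idx → D.F₀}
    (haa : H (rv D a) (rv D a) = 0) (ha : rv D a ≠ 0) (hc : rv D a ∈ Unitary.centres q M) : SUn ≤ M := by
  have hF := D.hF
  obtain ⟨ζ, hζ, hζ0, hζs⟩ := exists_skew D
  obtain ⟨e, f, w, B⟩ := exists_hyp D
  have hstep : ∀ {x y : Idx → D.F₀}, rv D x ∈ Unitary.centres q M → H (rv D y) (rv D y) = 0 →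
      H (rv D x) (rv D y) ≠ 0 → rv D y ∈ Unitary.centres q M := fun hx hyy hh =>
    centre_step hF hMK hx hyy hζ0 hζs (hR _ ζ hyy hζ hζs) hh
  have hef : rv D e ∈ Unitary.centres q M ∧ rv D f ∈ Unitary.centres q M := by
    by_cases h1 : H (rv D a) (rv D e) = 0
    · have h2 : H (rv D a) (rv D f) ≠ 0 := fun h2 => by
        have hd := B.dec (rv D a)
        rw [h1, h2, zero_smul, zero_smul, zero_add, zero_add] at hd
        rw [hd, H_smul_left, H_smul_right] at haa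
        rcases mul_eq_zero.1 haa with h | h
        · exact ha (by rw [hd, h, zero_smul])
        · rcases mul_eq_zero.1 h with h | h
          · exact ha (by rw [hd, eq_zero_of_pow_eq_zero h, zero_smul])
          · exact B.ww h
      have hcf := hstep hc B.ff h2
      exact ⟨hstep hcf B.ee (by rw [B.fe]; exact one_ne_zero), hcf⟩
    · have hce := hstep hc B.ee h1
      exact ⟨hce, hstep hce B.ff (by rw [B.ef]; exact one_ne_zero)⟩
  obtain ⟨α, hα, hαe⟩ := B.exists_coeff (one_mem D.F₀)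
  have hxx := B.comb_iso ⟨α, hα⟩ 1 hαe
  obtain ⟨g, hgM, hgx⟩ := exists_tvM hF hxx hζs (hR _ ζ hxx hζ hζs)
  refine SU3.Subspace.sl_le_of_line hF D.hn hq hMK B.ww (fun x hxw hxi => ?_) hgM fun hgw => ?_
  · have hd := B.dec x
    rw [hxw, zero_div, zero_smul, add_zero] at hd
    set c₁ := H x (rv D f)
    set c₂ := H x (rv D e)
    rcases eq_or_ne c₂ 0 with h0 | h0
    · rw [h0, zero_smul, add_zero] at hd
      rw [hd]
      exact Unitary.centres_smul hF _ hef.1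
    have hs : c₁ / c₂ + (c₁ / c₂) ^ q = 0 := by
      rw [hd] at hxi
      simp only [H_add_left, H_add_right hF, H_smul_left, H_smul_right, B.ee, B.ff, B.ef, B.fe, mul_zero,
        mul_one, add_zero, zero_add] at hxi
      rw [div_pow]
      field_simp
      linear_combination hxi
    obtain ⟨t, -, htx⟩ := Unitary.exists_tv hF B.ee hs
    have h1 := Unitary.centres_smul hF c₂ (Unitary.centres_map hF hMK (hef.1.2 t _ hs htx) hef.2)
    rw [htx, B.fe, mul_one, smul_add, smul_smul, mul_div_cancel₀ _ h0, add_comm] at h1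
    rwa [hd]
  · obtain ⟨l, hl⟩ := Submodule.mem_span_singleton.1 hgw
    rw [hgx] at hl
    have e1 := congrArg (fun x => H x (rv D e)) hl
    simp [rv_add, rv_smul, H_add_left, H_add_right hF, H_smul_left, H_smul_right, B.ee, B.fe, B.we, B.wf] at e1
    rcases e1 with h | h
    · exact hζ0 h
    · exact B.ww h

/-- subfield groups of odd prime index are maximal -/
theorem subfield_maximal (D : Data F q n) (hq : 3 ≤ q) (G : Subgroup GLn) (hG : G ≤ SUn)
    (hlow : ∀ g ∈ SUn, (∃ k : F, k ≠ 0 ∧ ∀ a : Idx → D.F₀, ∃ b : Idx → D.F₀,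
      k • ((g : Mat) *ᵥ rv D a) = rv D b) → g ∈ G)
    (hhigh : ∀ g ∈ G, ∃ k : F, k ≠ 0 ∧ ∀ a : Idx → D.F₀, ∃ b : Idx → D.F₀,
      k • ((g : Mat) *ᵥ rv D a) = rv D b) :
    Cfsg.Geo.IsMaximalIn SUn G := by
  classical
  have hF := D.hF
  obtain ⟨θ, hθ, hθne⟩ := exists_theta D
  obtain ⟨ζ, hζ, hζ0, hζs⟩ := exists_skew D
  have hskew : ∀ k : F, k ^ q = k → k * ζ + (k * ζ) ^ q = 0 := fun k hk => by
    rw [mul_pow, hk, ← mul_add, hζs, mul_zero]
  refine isMaximalIn_of hG (fun hle => ?_) fun M hM hMK g hgM hg => ?_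
  · obtain ⟨k₀, hk₀q, hk₀⟩ : ∃ k : F, k ^ q = k ∧ k ∉ D.F₀ := by
      by_contra hc
      push Not at hc
      have hall : ∀ x : F, x ∈ D.F₀ := fun x => by
        have h1 : x + x ^ q ∈ D.F₀ := hc _ (by
          rw [← HermStd.qHom_apply hF, ← HermStd.qHom_apply hF, map_add, HermStd.qHom_qHom, add_comm])
        have h2 : θ * x + (θ * x) ^ q ∈ D.F₀ := hc _ (by
          rw [← HermStd.qHom_apply hF, ← HermStd.qHom_apply hF, map_add, HermStd.qHom_qHom, add_comm])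
        rw [show x = ((θ * x + (θ * x) ^ q) - θ ^ q * (x + x ^ q)) / (θ - θ ^ q) by
          rw [eq_div_iff (sub_ne_zero.2 hθne.symm), mul_pow]; ring]
        exact D.F₀.div_mem (sub_mem h2 (mul_mem (pow_mem_F₀ D hθ) h1)) (sub_mem hθ (pow_mem_F₀ D hθ))
      have e : Nat.card D.F₀ = Fintype.card F := by
        rw [← Nat.card_eq_fintype_card]; exact Nat.card_congr (Equiv.subtypeUnivEquiv hall)
      have h := D.hcard
      rw [e] at h
      exact absurd ((Nat.pow_eq_self_iff Fintype.one_lt_card).1 h.symm) D.hr.ne_one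
    obtain ⟨e, f, w, B⟩ := exists_hyp D
    obtain ⟨s, hs, hsx⟩ := Unitary.exists_tv hF B.ee (hskew k₀ hk₀q)
    obtain ⟨k, hk, hkF⟩ := hhigh s (hle hs)
    obtain ⟨b, hb⟩ := hkF e
    rw [hsx, B.ee, mul_zero, zero_smul, add_zero] at hb
    have hk' : k ∈ D.F₀ := by
      have := congrArg (fun v => H v (rv D f)) hb
      simp only [H_smul_left, B.ef, mul_one] at this
      rw [this]; exact H_rat D b f
    obtain ⟨b', hb'⟩ := hkF f
    rw [hsx, B.fe, mul_one] at hb'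
    have h2 := congrArg (fun v => H v (rv D f)) hb'
    simp only [H_smul_left, H_add_left, B.ef, B.ff] at h2
    refine hk₀ ?_
    rw [show k₀ = H (rv D b') (rv D f) / (k * ζ) by
      rw [eq_div_iff (mul_ne_zero hk hζ0), ← h2]; ring]
    exact D.F₀.div_mem (H_rat D _ _) (mul_mem hk' hζ)
  have hlowM := fun x hx h => hM (hlow x hx h)
  have hR : RatRoots D M := ratRoots_of_low D hlowM
  obtain ⟨u, huu, hu, hirr⟩ := exists_irrational_centre D hMK hR hgM fun h => hg (hlow g (hMK hgM) h)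
  obtain ⟨v, hv, hN⟩ := exists_irrational_norm huu hirr
  obtain ⟨a, haa, ha, hc⟩ : ∃ a, H (rv D a) (rv D a) = 0 ∧ rv D a ≠ 0 ∧ rv D a ∈ Unitary.centres q M := by
    by_cases hsmall : ∀ x ∈ D.F₀, x ^ q = x → x = 0 ∨ x = 1
    · exact centre_of_two D hMK hlowM hR huu hu hv hN hsmall
    push Not at hsmall
    obtain ⟨k₀, hk₀, hk₀q, hk₀0, hk₀1⟩ := hsmall
    refine ⟨v, hv, fun h => hN ?_, centre_of_norm D hMK hR huu hu hv hN hk₀ hk₀q hk₀0 hk₀1⟩
    rw [h, H_zero_right hF, zero_mul]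
    exact zero_mem _
  exact le_of_centre D hq hMK hR haa ha hc

/-- conjunct (5) of S5777 -/
theorem maximal {F : Type*} [Field F] [Fintype F] {q : ℕ} (hF : Fintype.card F = q ^ 2) (hq : 3 ≤ q) :
    ∀ (F₀ : Subfield F) (r : ℕ) (P : Matrix.GeneralLinearGroup (Fin 3) F), r.Prime → Odd r → Fintype.card F = Nat.card F₀ ^ r → Cfsg.Geo.IsFormRationalStructure (Cfsg.hermForm 3 F q) F₀ 1 P → Cfsg.Geo.IsMaximalIn (Cfsg.GU 3 F q ⊓ Cfsg.Geo.specialLinear (Fin 3) F) (Cfsg.Geo.subfieldSubgroup F₀ P ⊓ (Cfsg.GU 3 F q ⊓ Cfsg.Geo.specialLinear (Fin 3) F)) := by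
  intro F₀ r P hr hro hcard hP
  classical
  let D : Data F q 3 := ⟨F₀, P, hF, rfl, r, hr, hro, hcard, hP⟩
  exact subfield_maximal D hq _ inf_le_right
    (fun g hg h => ⟨(SubfieldMem.mem_subfieldSubgroup F₀ P g).2 h, hg⟩)
    (fun g hg => (SubfieldMem.mem_subfieldSubgroup F₀ P g).1 hg.1)

end Cfsg.Agent.Forms.Max.SU3.Subfield
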